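import Cfsg.Agent.SporadicStructure.OctadStabFinal
import Cfsg.Agent.CoOneType.SignFacts
import Cfsg.Agent.S0363
import Cfsg.Agent.S1556
import Cfsg.Agent.S0367
set_option linter.all false

/-!
# The stabiliser of an octad in `M24` has no abelian quotient (helper927)

* `sup_wordPerm`, `exists_oct`, `exists_pair`: the action of `M24` on octad words and on pairs of octad words with given
  weight of the sum.
* `hom_eq_one`: every homomorphism of the stabiliser `St c` of an octad word `c` to an abelian group is trivial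
  (`2⁴ : A₈`, the elements of the normal subgroup fixing the octad pointwise are permuted transitively by the complement).
-/

set_option autoImplicit false
open Cfsg

namespace Cfsg.Agent.KFacts.MulCo.OctStab

open scoped Pointwise
open Cfsg.Agent.SporadicA Cfsg.Agent.SporadicA.Co0Mono
open Cfsg.Agent.CoOneType.SignFacts (sup wt sup_mem)
open Cfsg.Agent.SporadicStructure
open Cfsg.Agent.SporadicStructure.LeechBase (support₂_inj)
open Cfsg.Agent.SporadicA.Co1Simple (wordPerm_mul wordPerm_one)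

theorem app_inv {α : Type*} (g : Equiv.Perm α) (x : α) : g (g⁻¹ x) = x := g.apply_symm_apply x

theorem inv_app {α : Type*} (g : Equiv.Perm α) (x : α) : g⁻¹ (g x) = x := g.symm_apply_apply x

/-! ### Words and octads -/

theorem sup_wordPerm (m : M24) (c : golayCode) : sup (wordPerm m c) = (m : Equiv.Perm GolayPt) • sup c :=
  (M24Mem.smul_support₂ (m : Equiv.Perm GolayPt) (c : GolayPt → ZMod 2)).symm

theorem sup_inj {c d : golayCode} (h : sup c = sup d) : c = d := Subtype.ext (support₂_inj h)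

theorem sup_mem_octads {c : golayCode} (h : wt c = 8) : sup c ∈ octads := ⟨sup_mem c, h⟩

theorem wt_wordPerm (m : M24) (c : golayCode) : wt (wordPerm m c) = wt c := by
  rw [wt, sup_wordPerm, Finset.card_smul_finset, ← wt]

theorem wordPerm_add (m : M24) (c d : golayCode) : wordPerm m (c + d) = wordPerm m c + wordPerm m d := rfl

theorem wordPerm_inv_wordPerm (m : M24) (c : golayCode) : wordPerm m⁻¹ (wordPerm m c) = c := by
  rw [← wordPerm_mul, inv_mul_cancel, wordPerm_one]

theorem wordPerm_zero (m : M24) : wordPerm m 0 = 0 := rfl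

theorem wordPerm_allOne (m : M24) : wordPerm m Co1Simple.allOne = Co1Simple.allOne := rfl

theorem wordPerm_eq_iff (m : M24) (c d : golayCode) :
    wordPerm m c = d ↔ (m : Equiv.Perm GolayPt) • sup c = sup d := by
  rw [← sup_wordPerm]
  exact ⟨fun h => by rw [h], fun h => sup_inj h⟩

theorem exists_oct {c d : golayCode} (hc : wt c = 8) (hd : wt d = 8) : ∃ m : M24, wordPerm m c = d := by
  obtain ⟨g, hg⟩ := Cfsg.Agent.S0367.result _ _ (sup_mem_octads hc) (sup_mem_octads hd)
  exact ⟨g, (wordPerm_eq_iff _ _ _).2 hg⟩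

theorem wt_add (c d : golayCode) : wt (c + d) + 2 * (sup c ∩ sup d).card = wt c + wt d := by
  have h1 : sup (c + d) = symmDiff (sup c) (sup d) :=
    GolayEven.support₂_add (c : GolayPt → ZMod 2) (d : GolayPt → ZMod 2)
  rw [wt, h1]
  exact GolayBase.card_symmDiff_add _ _

theorem exists_pair {c d c' d' : golayCode} (hc : wt c = 8) (hd : wt d = 8) (hc' : wt c' = 8) (hd' : wt d' = 8)
    (h : wt (c + d) = wt (c' + d')) : ∃ m : M24, wordPerm m c = c' ∧ wordPerm m d = d' := by
  obtain ⟨m, hm⟩ := exists_oct hc hc'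
  have h1 := wt_add c d
  have h2 := wt_add c' d'
  have h3 := wt_add c' (wordPerm m d)
  have h4 : wt (c' + wordPerm m d) = wt (c + d) := by
    rw [← hm, ← wordPerm_add, wt_wordPerm]
  have h5 : wt (wordPerm m d) = 8 := by rw [wt_wordPerm, hd]
  obtain ⟨g, hg, h6, h7⟩ := Cfsg.Agent.S1556.result (sup c') (sup (wordPerm m d)) (sup d') (sup_mem_octads hc')
    (sup_mem_octads h5) (sup_mem_octads hd') (by omega)
  refine ⟨⟨g, hg⟩ * m, ?_, ?_⟩
  · rw [wordPerm_mul, hm]
    exact (wordPerm_eq_iff _ _ _).2 h6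
  · rw [wordPerm_mul]
    exact (wordPerm_eq_iff _ _ _).2 h7

/-! ### The stabiliser -/

/-- The stabiliser of a word. -/
def St (c : golayCode) : Subgroup M24 where
  carrier := {m | wordPerm m c = c}
  one_mem' := wordPerm_one c
  mul_mem' := fun {a b} ha hb => by
    show wordPerm (a * b) c = c
    rw [wordPerm_mul, show wordPerm b c = c from hb, show wordPerm a c = c from ha]
  inv_mem' := fun {a} ha => by
    show wordPerm a⁻¹ c = c
    have h : wordPerm a c = c := ha
    conv_lhs => rw [← h]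
    exact wordPerm_inv_wordPerm a c

theorem mem_St {c : golayCode} {m : M24} : m ∈ St c ↔ wordPerm m c = c := Iff.rfl

theorem inter_card {o o' : Finset GolayPt} (ho : o ∈ octads) (ho' : o' ∈ octads) (hne : o ≠ o')
    (h3 : 3 ≤ (o ∩ o').card) : (o ∩ o').card = 4 := by
  have h1 : 2 ∣ (o ∩ o').card := by
    obtain ⟨v, hv, rfl⟩ := ho.1
    obtain ⟨w, hw, rfl⟩ := ho'.1
    exact GolayEven.two_dvd_card_inter hv hw
  have h2 : (o ∩ o').card < 5 := by
    by_contra h
    exact hne (GolayBase.octad_unique ho ho' (by omega))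
  omega

/-- An octad through two points outside the octad `o` meeting `o` in four points. -/
theorem exists_octad {o : Finset GolayPt} (ho : o ∈ octads) {p q : GolayPt} (hp : p ∉ o) (hq : q ∉ o) (hpq : p ≠ q) :
    ∃ o' ∈ octads, p ∈ o' ∧ q ∈ o' ∧ (o ∩ o').card = 4 := by
  obtain ⟨s, hs, hs3⟩ := Finset.exists_subset_card_eq (s := o) (n := 3) (by
    rw [GolayBase.octad_card ho]; norm_num)
  have h5 : (insert p (insert q s)).card = 5 := by
    rw [Finset.card_insert_of_notMem, Finset.card_insert_of_notMem (fun h => hq (hs h)), hs3]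
    rw [Finset.mem_insert]
    rintro (h | h)
    · exact hpq h
    · exact hp (hs h)
  obtain ⟨o', ⟨ho', hsub⟩, -⟩ := Cfsg.Agent.S0363.result.2 _ h5
  have hp' : p ∈ o' := hsub (Finset.mem_insert_self _ _)
  have hq' : q ∈ o' := hsub (Finset.mem_insert_of_mem (Finset.mem_insert_self _ _))
  refine ⟨o', ho', hp', hq', inter_card ho ho' (fun h => hp (h ▸ hp')) ?_⟩
  rw [← hs3]
  exact Finset.card_le_card (Finset.subset_inter hs fun x hx =>
    hsub (Finset.mem_insert_of_mem (Finset.mem_insert_of_mem hx)))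

/-- A frame adapted to `o`, `p`, `q`. -/
theorem exists_frame {o : Finset GolayPt} (ho : o ∈ octads) {p q : GolayPt} (hp : p ∉ o) (hq : q ∉ o) (hpq : p ≠ q) :
    ∃ o' ∈ octads, ∃ a : Fin 4 → GolayPt, ∃ e : GolayPt, Function.Injective (Fin.append a ![p, q]) ∧
      (∀ i, Fin.append a ![p, q] i ∈ o') ∧ (∀ i, a i ∈ o) ∧ e ∈ o ∧ e ∉ o' := by
  obtain ⟨o', ho', hp', hq', h4⟩ := exists_octad ho hp hq hpq
  let f : Fin 4 ≃ ↥(o ∩ o') := (Fintype.equivFinOfCardEq (by rw [Fintype.card_coe, h4])).symm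
  obtain ⟨e, he⟩ : ∃ e, e ∈ o \ o' := by
    apply Finset.Nonempty.exists_mem
    rw [← Finset.card_pos]
    have := Finset.card_sdiff_add_card_inter o o'
    rw [h4, GolayBase.octad_card ho] at this
    omega
  rw [Finset.mem_sdiff] at he
  refine ⟨o', ho', fun i => (f i : GolayPt), e, ?_, ?_, fun i => (Finset.mem_inter.1 (f i).2).1, he.1, he.2⟩
  · rw [Fin.append_injective_iff]
    refine ⟨Subtype.val_injective.comp f.injective, ?_, ?_⟩
    · intro i j h
      fin_cases i <;> fin_cases j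
      · rfl
      · exact absurd h hpq
      · exact absurd h hpq.symm
      · rfl
    · intro i j h
      have h1 := (Finset.mem_inter.1 (f i).2).1
      fin_cases j
      · have h2 : (f i : GolayPt) = p := h
        rw [h2] at h1
        exact hp h1
      · have h2 : (f i : GolayPt) = q := h
        rw [h2] at h1
        exact hq h1
  · intro i
    refine Fin.addCases (fun i => ?_) (fun i => ?_) i
    · rw [Fin.append_left]
      exact (Finset.mem_inter.1 (f i).2).2
    · rw [Fin.append_right]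
      fin_cases i
      · exact hp'
      · exact hq'

/-- The stabiliser of an octad `o` and a point `p` outside is transitive on the other points outside `o`. -/
theorem exists_move {o : Finset GolayPt} (ho : o ∈ octads) {p q q' : GolayPt} (hp : p ∉ o) (hq : q ∉ o) (hq' : q' ∉ o)
    (hpq : p ≠ q) (hpq' : p ≠ q') : ∃ g ∈ M24, g • o = o ∧ g p = p ∧ g q = q' := by
  obtain ⟨u, hu, a, e, h1, h2, h3, h4, h5⟩ := exists_frame ho hp hq hpq
  obtain ⟨u', hu', a', e', h1', h2', h3', h4', h5'⟩ := exists_frame ho hp hq' hpq'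
  obtain ⟨g, ⟨hg, h6, h7⟩, -⟩ := M24Frame.exists_unique_frame_map hu hu' h1 h1' h2 h2' h5 h5'
  refine ⟨g, hg, ?_, ?_, ?_⟩
  · have h8 : Function.Injective a := (Fin.append_injective_iff.1 h1).1
    refine OctadStabM24.smul_octad_eq hg ho (s := insert e (Finset.univ.image a)) ?_ ?_ ?_
    · intro x hx
      rw [Finset.mem_insert, Finset.mem_image] at hx
      rcases hx with rfl | ⟨i, -, rfl⟩
      · exact h4
      · exact h3 i
    · rw [Finset.card_insert_of_notMem, Finset.card_image_of_injective _ h8, Finset.card_univ, Fintype.card_fin]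
      rw [Finset.mem_image]
      rintro ⟨i, -, rfl⟩
      have := h2 (Fin.castAdd 2 i)
      rw [Fin.append_left] at this
      exact h5 this
    · intro x hx
      rw [Finset.mem_insert, Finset.mem_image] at hx
      rcases hx with rfl | ⟨i, -, rfl⟩
      · rw [h7]; exact h4'
      · have := h6 (Fin.castAdd 2 i)
        rw [Fin.append_left, Fin.append_left] at this
        rw [this]
        exact h3' i
  · have := h6 (Fin.natAdd 4 (0 : Fin 2))
    rw [Fin.append_right, Fin.append_right] at this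
    exact this
  · have := h6 (Fin.natAdd 4 (1 : Fin 2))
    rw [Fin.append_right, Fin.append_right] at this
    exact this

theorem mem_St_of_smul {c : golayCode} {g : Equiv.Perm GolayPt} (hg : g ∈ M24) (h : g • sup c = sup c) :
    (⟨g, hg⟩ : M24) ∈ St c := (wordPerm_eq_iff _ _ _).2 h

theorem smul_eq_of_fix {g : Equiv.Perm GolayPt} {o : Finset GolayPt} (h : ∀ x ∈ o, g x = x) : g • o = o := by
  apply Finset.eq_of_subset_of_card_le
  · intro y hy
    obtain ⟨x, hx, rfl⟩ := Finset.mem_smul_finset.1 hy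
    rw [show g • x = g x from rfl, h x hx]
    exact hx
  · rw [Finset.card_smul_finset]

theorem smul_eq_of_mem_L {c : golayCode} {p : GolayPt} {g : Equiv.Perm GolayPt}
    (hg : g ∈ OctadStabAbs.L M24 (sup c) p) : g • sup c = sup c :=
  (OctadStabAbs.mem_stabilizer_finset_iff g (sup c)).2 (OctadStabAbs.mem_L.1 hg).2.1

section hom

variable {c : golayCode} (hc : wt c = 8) {Z : Type*} [CommGroup Z] (z : ↥(St c) →* Z)

include hc

theorem z_L {p : GolayPt} (hp : p ∉ sup c) (g : Equiv.Perm GolayPt) (hg : g ∈ OctadStabAbs.L M24 (sup c) p) :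
    z ⟨⟨g, (OctadStabAbs.mem_L.1 hg).1⟩, mem_St_of_smul _ (smul_eq_of_mem_L hg)⟩ = 1 := by
  obtain ⟨e⟩ := OctadStabAbs.nonempty_mulEquiv (OctadStabFinal.hyp (sup_mem_octads hc) hp)
  let j : ↥(OctadStabAbs.L M24 (sup c) p) →* ↥(St c) :=
    { toFun := fun g => ⟨⟨g, (OctadStabAbs.mem_L.1 g.2).1⟩, mem_St_of_smul _ (smul_eq_of_mem_L g.2)⟩
      map_one' := rfl
      map_mul' := fun _ _ => rfl }
  have h1 : ∀ x : alternatingGroup (Fin 8), (z.comp j).comp e.symm.toMonoidHom x = 1 := by
    intro x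
    have h2 : x ∈ commutator (alternatingGroup (Fin 8)) := by
      rw [commutator_alternatingGroup_eq_top (by simp)]
      trivial
    exact Abelianization.commutator_subset_ker _ h2
  have h3 := h1 (e ⟨g, hg⟩)
  have h4 : (z.comp j).comp e.symm.toMonoidHom (e ⟨g, hg⟩) = z (j ⟨g, hg⟩) := by
    show z (j (e.symm (e ⟨g, hg⟩))) = _
    rw [e.symm_apply_apply]
  rw [h4] at h3
  exact h3

/-- `z` is constant on the non-trivial elements fixing the octad pointwise. -/
theorem z_K {p : GolayPt} (hp : p ∉ sup c) {k k' : Equiv.Perm GolayPt} (hk : k ∈ M24) (hk' : k' ∈ M24)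
    (h : ∀ x ∈ sup c, k x = x) (h' : ∀ x ∈ sup c, k' x = x) (hkp : k p ≠ p) (hkp' : k' p ≠ p) :
    z ⟨⟨k, hk⟩, mem_St_of_smul _ (smul_eq_of_fix h)⟩ = z ⟨⟨k', hk'⟩, mem_St_of_smul _ (smul_eq_of_fix h')⟩ := by
  have ho := sup_mem_octads hc
  have hout : ∀ k : Equiv.Perm GolayPt, (∀ x ∈ sup c, k x = x) → k p ∉ sup c := by
    intro k h hmem
    have := h _ hmem
    rw [k.injective this] at hmem
    exact hp hmem
  obtain ⟨l, hl, hlo, hlp, hlq⟩ := exists_move ho hp (hout k h) (hout k' h') (Ne.symm hkp) (Ne.symm hkp')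
  have hlL : l ∈ OctadStabAbs.L M24 (sup c) p :=
    OctadStabAbs.mem_L.2 ⟨hl, (OctadStabAbs.mem_stabilizer_finset_iff l _).1 hlo, hlp⟩
  have hzl := z_L hc z hp l hlL
  -- `l k l⁻¹ = k'`
  have hfix : ∀ x ∈ sup c, (l * k * l⁻¹) x = x := by
    intro x hx
    have h1 : l⁻¹ x ∈ sup c := by
      rw [← (OctadStabAbs.mem_stabilizer_finset_iff l _).1 hlo]
      rw [app_inv]
      exact hx
    rw [Equiv.Perm.mul_apply, Equiv.Perm.mul_apply, h _ h1, app_inv]
  have h1 : k'⁻¹ * (l * k * l⁻¹) = 1 := by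
    obtain ⟨s, hs, hs6⟩ := Finset.exists_subset_card_eq (s := sup c) (n := 6) (by
      rw [GolayBase.octad_card ho]; norm_num)
    refine M24Frame.eq_one_of_fix_frame (mul_mem (inv_mem hk') (mul_mem (mul_mem hl hk) (inv_mem hl))) ho hs hs6.ge
      (fun x hx => ?_) hp ?_
    · rw [Equiv.Perm.mul_apply, hfix x (hs hx), Equiv.Perm.inv_eq_iff_eq, h' x (hs hx)]
    · have e1 : l⁻¹ p = p := by rw [Equiv.Perm.inv_eq_iff_eq, hlp]
      rw [Equiv.Perm.mul_apply, Equiv.Perm.mul_apply, Equiv.Perm.mul_apply, e1, hlq, inv_app]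
  have h2 : k' = l * k * l⁻¹ := by rwa [inv_mul_eq_one] at h1
  have h3 : (⟨⟨k', hk'⟩, mem_St_of_smul _ (smul_eq_of_fix h')⟩ : ↥(St c)) =
      ⟨⟨l, hl⟩, mem_St_of_smul _ hlo⟩ * ⟨⟨k, hk⟩, mem_St_of_smul _ (smul_eq_of_fix h)⟩ *
        ⟨⟨l, hl⟩, mem_St_of_smul _ hlo⟩⁻¹ := by
    apply Subtype.ext
    apply Subtype.ext
    exact h2
  rw [h3, map_mul, map_mul, map_inv, hzl, one_mul, inv_one, mul_one]

theorem z_K_eq_one {p : GolayPt} (hp : p ∉ sup c) {k : Equiv.Perm GolayPt} (hk : k ∈ M24)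
    (h : ∀ x ∈ sup c, k x = x) :
    z ⟨⟨k, hk⟩, mem_St_of_smul _ (smul_eq_of_fix h)⟩ = 1 := by
  have ho := sup_mem_octads hc
  by_cases hkp : k p = p
  · obtain ⟨s, hs, hs6⟩ := Finset.exists_subset_card_eq (s := sup c) (n := 6) (by
      rw [GolayBase.octad_card ho]; norm_num)
    have h1 : k = 1 := M24Frame.eq_one_of_fix_frame hk ho hs hs6.ge (fun x hx => h x (hs hx)) hp hkp
    have h2 : (⟨⟨k, hk⟩, mem_St_of_smul _ (smul_eq_of_fix h)⟩ : ↥(St c)) = 1 := by
      apply Subtype.ext
      apply Subtype.ext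
      exact h1
    rw [h2, map_one]
  -- a further point outside
  obtain ⟨q, hq⟩ : ∃ q, q ∉ insert p (insert (k p) (sup c)) := by
    by_contra hcon
    push Not at hcon
    have h1 : (Finset.univ : Finset GolayPt) ⊆ insert p (insert (k p) (sup c)) := fun x _ => hcon x
    have h2 := Finset.card_le_card h1
    have h3 := Finset.card_insert_le p (insert (k p) (sup c))
    have h4 := Finset.card_insert_le (k p) (sup c)
    have h5 := GolayBase.octad_card ho
    have h6 : (Finset.univ : Finset GolayPt).card = 24 := by decide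
    omega
  rw [Finset.mem_insert, Finset.mem_insert, not_or, not_or] at hq
  obtain ⟨hqp, hqk, hqo⟩ := hq
  obtain ⟨g, hg, hgo, hgq⟩ := M24Frame.exists_fix_octad_map ho hqo hp
  -- `g q = p`; `g⁻¹ p = q`
  have hgo' : ∀ x ∈ sup c, g⁻¹ x = x := fun x hx => by rw [Equiv.Perm.inv_eq_iff_eq, hgo x hx]
  have hgp : g⁻¹ p = q := by rw [Equiv.Perm.inv_eq_iff_eq, hgq]
  have h1 : ∀ x ∈ sup c, (g * k) x = x := fun x hx => by rw [Equiv.Perm.mul_apply, h x hx, hgo x hx]
  have h2 : (g * k) p ≠ p := by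
    rw [Equiv.Perm.mul_apply]
    intro h3
    apply hqk
    apply g.injective
    rw [h3, hgq]
  have h3 := z_K hc z hp hk (inv_mem hg) h hgo' hkp (by rw [hgp]; exact hqp)
  have h4 := z_K hc z hp (mul_mem hg hk) hk h1 h h2 hkp
  have h5 : (⟨⟨k, hk⟩, mem_St_of_smul _ (smul_eq_of_fix h)⟩ : ↥(St c)) =
      ⟨⟨g⁻¹, inv_mem hg⟩, mem_St_of_smul _ (smul_eq_of_fix hgo')⟩ *
        ⟨⟨g * k, mul_mem hg hk⟩, mem_St_of_smul _ (smul_eq_of_fix h1)⟩ := by
    apply Subtype.ext
    apply Subtype.ext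
    show k = g⁻¹ * (g * k)
    rw [inv_mul_cancel_left]
  have h6 := congrArg z h5
  rw [map_mul, ← h3, h4] at h6
  exact (left_eq_mul.1 h6)

/-- Homomorphisms of an octad stabiliser to abelian groups are trivial. -/
theorem hom_eq_one (m : ↥(St c)) : z m = 1 := by
  have ho := sup_mem_octads hc
  obtain ⟨p, hp⟩ : ∃ p, p ∉ sup c := by
    by_contra hcon
    push Not at hcon
    have h1 : (Finset.univ : Finset GolayPt) ⊆ sup c := fun x _ => hcon x
    have h2 := Finset.card_le_card h1
    have h5 := GolayBase.octad_card ho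
    have h6 : (Finset.univ : Finset GolayPt).card = 24 := by decide
    omega
  have H := OctadStabFinal.hyp ho hp
  have hm : ((m : M24) : Equiv.Perm GolayPt) • sup c = sup c := (wordPerm_eq_iff _ _ _).1 m.2
  obtain ⟨k, hk, hko, hkL⟩ := OctadStabAbs.exists_mul_mem_L H _ (m : M24).2
    ((OctadStabAbs.mem_stabilizer_finset_iff _ _).1 hm)
  have h1 := z_K_eq_one hc z hp hk hko
  have h2 := z_L hc z hp _ hkL
  have h3 : (⟨⟨k * ((m : M24) : Equiv.Perm GolayPt), (OctadStabAbs.mem_L.1 hkL).1⟩,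
      mem_St_of_smul _ (smul_eq_of_mem_L hkL)⟩ : ↥(St c)) =
      ⟨⟨k, hk⟩, mem_St_of_smul _ (smul_eq_of_fix hko)⟩ * m := by
    apply Subtype.ext
    apply Subtype.ext
    rfl
  rw [h3, map_mul, h1, one_mul] at h2
  exact h2

end hom

end Cfsg.Agent.KFacts.MulCo.OctStab
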