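import Cfsg.Agent.KFacts.MulDef
import Cfsg.Agent.CoOneType.SignFacts
import Cfsg.Agent.KFacts.MulCo.OctStab
import Cfsg.Agent.SporadicStructure.OctadSpan
import Cfsg.Agent.S0358
import Cfsg.Agent.S0364
import Cfsg.Agent.S0365
import Cfsg.Agent.S0398
import Cfsg.Agent.S0399
import Cfsg.Agent.KFacts.MulBaer
import Cfsg.Agent.S0368
set_option linter.all false

-- merged: Cfsg.Agent.KFacts.MulCo.Quot
section

/-!
# Double covers as quotients of central extensions (helper927)

* `exists_index_two`: between central subgroups `Y ≤ Z` with `|Z : Y|` even there is `Z₀` of index 2 in `Z` containing `Y`.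
* `dbl_of_relIndex`: dividing out a subgroup `Z₀` of index 2 of the central kernel gives a perfect double cover.
* `exists_dbl`: if `|f.ker : Y|` is even for the central extension `f : K → X`, `K` finite perfect, then some quotient
  `K / Z₀`, `Y ≤ Z₀ ≤ f.ker`, is a perfect double cover of `X`.
-/

set_option autoImplicit false

namespace Cfsg.Agent.KFacts.MulCo.Quot

open Subgroup Cfsg.Agent.KFacts.MulTwo Cfsg.Agent.KFacts.MulDef

theorem normal_of_le_center {K : Type*} [Group K] {Y : Subgroup K} (hY : Y ≤ center K) : Y.Normal :=
  ⟨fun n hn g => by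
    have : g * n = n * g := mem_center_iff.1 (hY hn) g
    rw [this, mul_inv_cancel_right]; exact hn⟩

theorem exists_index_two {K : Type*} [Group K] [Finite K] {Y Z : Subgroup K} (hZ : Z ≤ center K) (hYZ : Y ≤ Z)
    (h2 : 2 ∣ Y.relIndex Z) : ∃ Z₀ : Subgroup K, Y ≤ Z₀ ∧ Z₀ ≤ Z ∧ Z₀.relIndex Z = 2 := by
  have hn : Y.Normal := normal_of_le_center (hYZ.trans hZ)
  let q := QuotientGroup.mk' Y
  have hq : Function.Surjective q := QuotientGroup.mk'_surjective _
  have hcen : Z.map q ≤ center (K ⧸ Y) := by
    rintro _ ⟨z, hz, rfl⟩
    rw [mem_center_iff]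
    intro x
    obtain ⟨x, rfl⟩ := hq x
    rw [← map_mul, ← map_mul, mem_center_iff.1 (hZ hz) x]
  have hker : q.ker = Y := QuotientGroup.ker_mk' Y
  have hcard : Nat.card (Z.map q) = Y.relIndex Z := by
    rw [← relIndex_ker, hker]
  obtain ⟨Z₁, hle, hc⟩ := MulDef.exists_index_two hcen (by rw [hcard]; exact h2)
  refine ⟨Z₁.comap q, ?_, ?_, ?_⟩
  · intro y hy
    rw [mem_comap]
    have : q y = 1 := by rw [← MonoidHom.mem_ker, hker]; exact hy
    rw [this]; exact one_mem _
  · intro x hx
    obtain ⟨z, hz, h3⟩ := hle (mem_comap.1 hx)
    have h4 : z⁻¹ * x ∈ Y := by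
      rw [← hker, MonoidHom.mem_ker, map_mul, map_inv, h3, inv_mul_cancel]
    have := mul_mem hz (hYZ h4)
    rwa [mul_inv_cancel_left] at this
  · rw [relIndex_comap]
    have h1 := (Z₁.subgroupOf (Z.map q)).card_mul_index
    rw [Nat.card_congr (subgroupOfEquivOfLe hle).toEquiv, hc, mul_comm 2] at h1
    exact Nat.eq_of_mul_eq_mul_left Nat.card_pos h1

theorem dbl_of_relIndex {K : Type*} [Group K] {X : Type*} [Group X] (hK : commutator K = ⊤)
    {f : K →* X} (hf : Function.Surjective f) (hZ : f.ker ≤ center K) {Z₀ : Subgroup K} [Z₀.Normal]
    (hle : Z₀ ≤ f.ker) (hidx : Z₀.relIndex f.ker = 2) :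
    ∃ c : K ⧸ Z₀, Dbl (QuotientGroup.lift Z₀ f hle) c := by
  have hcomm : ∀ a ∈ f.ker, ∀ b : K, b * a = a * b := fun a ha b => mem_center_iff.1 (hZ ha) b
  let q := QuotientGroup.mk' Z₀
  have hq : Function.Surjective q := QuotientGroup.mk'_surjective _
  have hlt : ∃ c ∈ f.ker, c ∉ Z₀ := by
    by_contra hcon
    push Not at hcon
    have h1 : f.ker ≤ Z₀ := hcon
    rw [relIndex_eq_one.2 h1] at hidx
    omega
  obtain ⟨c, hc, hc0⟩ := hlt
  have hq1 : ∀ x, q x = 1 ↔ x ∈ Z₀ := fun x => QuotientGroup.eq_one_iff x
  have htwo : ∀ x ∈ f.ker, x ∈ Z₀ ∨ c⁻¹ * x ∈ Z₀ := by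
    intro x hx
    by_contra hcon
    push Not at hcon
    have h1 := (Subgroup.mul_mem_iff_of_index_two hidx (a := (⟨c, hc⟩ : f.ker)⁻¹) (b := ⟨x, hx⟩))
    simp only [mem_subgroupOf, coe_mul, coe_inv, inv_mem_iff] at h1
    exact hcon.2 (h1.2 ⟨fun h => absurd h hc0, fun h => absurd h hcon.1⟩)
  refine ⟨q c, ⟨⟨?_, ?_, ?_, ?_⟩, ?_, ?_⟩⟩
  · exact fun h1 => hc0 ((hq1 c).1 h1)
  · rw [← map_mul, hq1]
    rcases htwo (c * c) (mul_mem hc hc) with h1 | h1
    · exact h1
    · rw [inv_mul_cancel_left] at h1
      exact absurd h1 hc0
  · intro x
    obtain ⟨x, rfl⟩ := hq x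
    rw [← map_mul, ← map_mul, hcomm c hc x]
  · exact commutator_top_of_surj q hq hK
  · exact fun y => (hf y).imp' q fun x hx => hx
  · intro x
    obtain ⟨x, rfl⟩ := hq x
    show f x = 1 ↔ _
    constructor
    · intro hx
      rcases htwo x hx with h1 | h1
      · left; exact (hq1 x).2 h1
      · right
        have := (hq1 _).2 h1
        rw [map_mul, map_inv] at this
        exact (inv_mul_eq_one.1 this).symm
    · rintro (h1 | h1)
      · exact hle ((hq1 x).1 h1)
      · have h2 : q (c⁻¹ * x) = 1 := by rw [map_mul, map_inv, h1, inv_mul_cancel]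
        have h3 := hle ((hq1 _).1 h2)
        have := mul_mem hc h3
        rwa [mul_inv_cancel_left] at this

/-- A double cover of `X` below a central extension with kernel larger than `Y`. -/
theorem exists_dbl {K : Type*} [Group K] [Finite K] {X : Type*} [Group X] (hK : commutator K = ⊤)
    {f : K →* X} (hf : Function.Surjective f) (hZ : f.ker ≤ center K) {Y : Subgroup K} (hY : Y ≤ f.ker)
    (h2 : 2 ∣ Y.relIndex f.ker) :
    ∃ (Z₀ : Subgroup K) (_ : Z₀.Normal) (hle : Z₀ ≤ f.ker) (c : K ⧸ Z₀), Y ≤ Z₀ ∧
      Dbl (QuotientGroup.lift Z₀ f hle) c := by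
  obtain ⟨Z₀, h1, h3, h4⟩ := exists_index_two hZ hY h2
  have hn : Z₀.Normal := normal_of_le_center (h3.trans hZ)
  obtain ⟨c, hc⟩ := dbl_of_relIndex hK hf hZ h3 h4
  exact ⟨Z₀, hn, h3, c, h1, hc⟩

/-- If `π : M → X` is surjective with kernel `{1, c}`, `c` central, and `X` is perfect without perfect double cover, then
`⟨c⟩` is a direct factor: the commutator subgroup is a complement. -/
theorem compl_of_noDouble {M X : Type*} [Group M] [Finite M] [Group X] (hX : commutator X = ⊤) (h : NoDouble X)
    {π : M →* X} (hs : Function.Surjective π) {c : M} (hc1 : c ≠ 1) (hcc : c * c = 1)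
    (hcen : ∀ x, c * x = x * c) (hker : ∀ x, π x = 1 ↔ x = 1 ∨ x = c) :
    c ∉ commutator M ∧ ∀ x : M, x ∈ commutator M ∨ c * x ∈ commutator M := by
  have hmap : (commutator M).map π = ⊤ := by
    rw [commutator_def, map_commutator, ← MonoidHom.range_eq_map, MonoidHom.range_eq_top.2 hs, ← commutator_def, hX]
  have key : ∀ x : M, x ∈ commutator M ∨ c * x ∈ commutator M := by
    intro x
    have h1 : π x ∈ (commutator M).map π := by rw [hmap]; trivial
    obtain ⟨d, hd, h2⟩ := h1
    have h3 : π (d * x⁻¹) = 1 := by rw [map_mul, map_inv, h2, mul_inv_cancel]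
    rcases (hker _).1 h3 with h4 | h4
    · left
      rw [mul_inv_eq_one] at h4
      rw [← h4]; exact hd
    · right
      rw [mul_inv_eq_iff_eq_mul] at h4
      rw [← h4]; exact hd
  refine ⟨fun hc => ?_, key⟩
  have htop : commutator M = ⊤ := by
    rw [eq_top_iff]
    intro x _
    rcases key x with h1 | h1
    · exact h1
    · have := mul_mem (inv_mem hc) h1
      rwa [inv_mul_cancel_left] at this
  exact h.false (π := π) (c := c) ⟨⟨hc1, hcc, hcen, htop⟩, hs, hker⟩

end Cfsg.Agent.KFacts.MulCo.Quot

end

-- merged: Cfsg.Agent.KFacts.MulCo.OctCert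
section

/-!
# Octads of the Golay code: twelve octads generate all octads under the third octad operation of sextets (helper927)

* `w i`: the code word with low 12 bits `i`; `wt_w`, `exists_w`, `w_xor`.
* `oct_induction`: a property of octad words which holds for twelve octads `bas j` and passes from `c, d` to `c + d`
  whenever `c`, `d`, `c + d` are octads holds for all octads.
* `patterns`: octads with prescribed intersections.
-/

set_option autoImplicit false
open Cfsg

namespace Cfsg.Agent.KFacts.MulCo.OctCert

open Cfsg.Agent.SporadicA Cfsg.Agent.SporadicA.GolayBase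
open Cfsg.Agent.CoOneType.SignFacts (sup wt)

/-- The code word with low 12 bits `i`. -/
def w (i : ℕ) : golayCode := ⟨word (enc i), enc_mem i⟩

theorem w_xor (i j : ℕ) : w (i ^^^ j) = w i + w j := by
  apply Subtype.ext
  show word (enc (i ^^^ j)) = word (enc i) + word (enc j)
  rw [enc_xor, word_xor]

theorem wt_w (i : ℕ) : wt (w i) = popcount (enc i) := by
  show (support₂ (word (enc i))).card = _
  rw [support₂_word, card_fin]

theorem exists_w (c : golayCode) : ∃ i, i < 4096 ∧ w i = c := by
  obtain ⟨i, hi, h⟩ := isCode_iff_exists.1 ((mem_golayCode_iff (c : GolayPt → ZMod 2)).1 c.2)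
  refine ⟨i, hi, Subtype.ext ?_⟩
  show word (enc i) = _
  rw [← h, word_maskW]

/-- Boolean test for octads. -/
def isO (i : ℕ) : Bool := Nat.beq (popcount (enc i)) 8

theorem isO_iff (i : ℕ) : isO i = true ↔ wt (w i) = 8 := by
  rw [isO, wt_w]
  exact Iff.of_eq Nat.beq_eq

/-- Depth and parent table: 16 bits for each index. -/
def T : ℕ := 0x5423000000000000000000000000000000000000000000000000000000000000000000000000000000000000000000005aa30000000000000000000000000000000000000000000000000000000000000000000000000000000000000000000000000000000000000000000000000000000000000000000000000000000000000000000000000000000000000000000000000000000000000000000000000000000000000000000000000000000000000000000000000000000000000000000000000000000000000000000000000000000000000000000000005aa3000000000000000000000000000000000000000000000000000000006cc30000000000006014000000000000000000000000000000000000000000000000000000000000000000000000000000000000000000000000000000000000000000000000000000000000000000000000000000000000000000000000000000000000000000006cc400000000000000000000000000000000000000000000000000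000000000000000000000000000000000000000000000000000000000000000000000000000000000000000000000000000000000000000000000000000000000000000000c1030000000000000000000000000000000000000000000000000000000000000000000000000000000000006cc30000000000000000284400000000000000000000000000000000000000000000000000000000000000000000000000000000000000000000000000000000000000000000000000000000000000000000000000000000000000000000000000000000000000000000000000000000000000000000000000000000000000000000000000000000000000006cc30000c1026cc40000000000000000000000000000000000000000000000000000000000000000489300000000000000000000000000000000000026a300000000000000006242000000000000000040d3000000000000000000000000000000000000000000006cc4000000000000000000000000a8037103000000000000000000008123000021130000000000000000000000000000000000000000000000000000000000000000000000000000000000000000000000000000000000000000000000000000000000000000000000000000000000000000000000000000000000000000000000000000000000000000000000000000000000009c830000000000000000000000000000000000000000000000000000000000000000000000000000000000000000000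00000000000000000000000000000000000000000000000000000c28300000000000000000000000000000000c103000000000000000000000000000000000000000000000000000000000000000000000000000000000000000000004983000000000000000000000000000000000000000000000000000000000000000000000000000000000000000000000000000000000000000000000000000000000000000000000000000000000000000000000000000000000000000000004441000000000000000000000000000000000000000000000000000000009c8391440000000000000000000000000000000000000000000000000000000000004283000000000000000000000000000000000000000000003663000010a3000000000000000000000000000000000000000000000000000091440000000000000000000000004483000000004984000010a30000000000000000000054245042000000000000000000000000000000000000000000000000000000000000000000000000000000000000000000000000000000000000000000000000000000006cc300000000000000000000000000000000000000000000000000000000000000000000000000000000000000000cb300000000000000000000000000000000448300000000000000000000000000000000000000000000000000001e22000000000000000000004a0400000000000000000000000000000000000000000000000000000000000000000000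000000000000000000000000498400000000628300000000000000000000000000000000d01300000000000009536cc4c1040000601300000000000000000000000000000000000000006cc300000000000000000000000000000000000000000000000000000000000000000000000081230000e2130000000000000000000054230000000000000000000000000000000000003434000000000000448200000000000095230000000000000463542400000000000000000000000000000000000000004a0400000000000000000000000000000000000000000000000065930000000003820000000000004703000000005424110400000000000000000000000048930000000025430000000000004534c102504100006cc300000000000000000000498354230000a1536283000015228883498400000000000000000000000000000000000000000000000000000000000000000000000000000000000000000000000000000000000000000000000000000000000000000000000000000000000000000000000000000000000000000000000000000000000000000000000000000000000000000000000000000000284300000000000000000000000000000000000000000000000000000000000000000000000000000000000000000000000000000000000000000000000034330000000000000000000000000000000000000000000000000000000000000000000028410000000000009144000000000000000000000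000000000000000000000000000000000000000000000000000000000000000000000000000000000000000000000000000000000000000000000000000000000000000000000000000000000000000000000000000000000000000000000000000000091430000000000000000000000000000000000000000000000000000000000000000000030130000914300000000000000000000000000000000000000000000000000000000000022830000000000000000000000000000000000000000504300000000000000001e23000000000000000000000000000016a30000000000000000000000000000000000000000000000000000382321130000000095230000000000000000343354230000000000000000000000000000000000000000000000000000000000000000000000000000000000000000000000000000000000006cc30000000000000000000000000000000000000000000000000000000000000000000000000000000000000000000000000000000000000e4300000000000000000000b90200000000000000000000000000000000129200000000000000000000000000000000000000000000000000000000000000000000000000000000000000000000000080430000000000000000000000000000000000001062000000000000000000004a04000000000000000000000000000095230000000000000463301400002842284200000000000000000000000000000000000000000000000000001e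2200000000000000000000000000000000000000000000000000000000000000006014a723000000000000000000000000000003840000000000000000000000008053000040d30000000000000000000000006043000000000000804300000000000034330000000000000000000000000000000000000000000062420000000000000000000000000000229200000e830000c28300000000000000002603000000002b0300000000000000000000258300000000000000009142000000002543601260130000000000000383000000000cb30000000034336cc46014211380430000c1030000000000000000000000000000000000000000000000000000000000004a02000000000000000000000000000000000000000000000000000000000000000000000000000000000000000000000000000000000000000000000000000000000000000000000000000000000000498200000000000000000000000000008044000000000000000000000000000000000000000000000000000000000000000000000000000000000000000000005aa30000000000009143000000000000000000000000000000000000000000000000000000000d0300000000a8030000000000000000000000009f03000000000000000000000000b903000010a3914291430000000000000000000000000000000000000000000000000000000000000000000000000000000000000000000000000000000000009f0307b30000000072230000000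00000000000000000343400000000000000000000000054220000000000000000000010a300003663000000000000000014020000000000000000542300001783000000000000000000000000000000000000000000000000343300000000000000000000000000009523c2830000000000000000000054240000038300000000000000000000000000004482000000000000000000005044c103c10300000000000019c30000000000009144042350430000914410620000888388830000000000000000000000000000000000000000000000000000000000000000000000000000000000002533000000000000000000000000000000000e4200000000000000008883000000000000000000000000000000003432000000006cc4000000000000000000000000000000000000000025332523000010a30000a8030000000000000000000000000000000000000000000080430000000000004a02000000000000000000000000000003831e2300000000000000004a03c283038400000000000000000000498300004893000000000000000000000000b902b90200006cc32a130000000000004983498200008123000019c300006c031e24000000000000000000000000000000000e83000000000000000000000000000011040000000000000383000000008123000000006243000000000000000000004483000000000000000000000000000000000000914400005042000000004533d503000000000000000000004483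2583c10400009142254300000462046225430d03000000000000000000000000000022930000000000000384a723a723129300000000000049f3000000000383000000000000c28321138b03000080442533601300000000229340d3d013000000002a134153000000009144000054220000914400000e44000040e3038403841113444300000000914191418d336244410391430000000000000000000000000000000000000000000000000000000000000000000000000000000000000000000000000000000000000000000000000000000000000000000000000000000000000000000000000000000000000000000000000000000000000000000000000000000000000000000000000000000000002a1300000000000000000000000000000000000000000000504300000000000000000000000000000000000000000000000000000000000000000000000000000000000000000000000000000000000000000000000000000000000000000000000000000000000000000000000060130000000000000000000000005aa300000000000000000000000000000000000000000000000000000000000000000000000000000000000000000000000000000000000000000000000000000000000000000000000000000000000000000000000000000000000000000000000000005043000000000000000000000000000000000000000044420000000049830000000000000000000000000000000000000000000000000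0000000000000000000000000000000000000000000000000000000000000000000000000001e22229322830000000000000000000000000000691300000000000000000000000000005422000030030000000000000000000032030000000000006103000000004a030000000000000000000000000000000000000000000000000000000000000000000000000000000000000000000000000000000000000000000054230000000000000000000000000000000000000000000000000000000000000000000000000000000000000000000000000000000000000000000000000000000000000000284100000000000000000000000000000000000000000000000000000000000000000000000000000000000000000000c2830000000000000000000000000000229300000000000000000000000000005423000000000000000000003383284200000000000000000000000000000000000000000462000061030000000049842844000000000000000000000000000000000000000000000000000000000000624300000000000000000000000000000000000000000000470300000000000044830000000000000000000000006cc20000000004630000000000000000000000000000000000000000000049f3000026030000000000000000000000006cc33434000000000000000000006cc300000000000000000000000000000000470300000000000032c300000000000000004a020000000000004a010000343300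000000000000000000000000000000000000000000000003841104000045330000498200000000000000c349830000000044836cc3000000005042211461035421601200000000000000000000000000000000000000000000000000000000000000000000000000000000000000000000000000000000000000000000000000004a02000000000000000000000000000000000000000000000000000000000cb3000000000000000000000000000000001573000000000000000000000000000000000000000000000000000000000000000000000000000000000000000000000000000000000000000000001e22000000000000000000000000000000000000601300000000000000000000000000000000000000000000000000005423000050430000000000004983000000000000000000000000624340d33432000000004a040000000000000000000000000000000000000000000000000000343400000000000000000000000000000000000000000000000000004703000000001292000000000000000004630000000000000000000000000000000000000000000000000000000000000000691300000000710300000000000071030000000000005044000000000000000000000000542300000000000000000000000000000000038300000000000032c30000000000004a0304630000000000000000000000003203000000000000000000004482000000000000444219c30000000000004983498300000000000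00000000000004483448200004a040000000019c361036012601200000000000000000000000000001e2300000000000000000000000000000000000000000000000000000000000000000000000000006cc3000000000000000000000000000000000000000000000000000000000000601300004023000000000000000000000000000054230000000000000000498300000000253334340e830000000000000000000000000000000000000000000000000000000003832b030000000000000000000000004a04000000006cc31a43000000005044000000006cc20000000000000000000000004a010000000000002843000000000000498400000000000050430000498360122883000019c3000000001e2300005043095200000000000000000000000000000000000000000000000000000000000003820000504300000000000000006cc36cc30000000000000000000047034a030000000000000000000000000000000025830000000000002543542100006103604300000000157300000000000000002841542454240000000000002523601360130000000000000b5300000000000000000000038300004a031293000000006243000000000000000000000b5300006012000000006014470362436243129356130000000000001063000033836cc311030000000050410000542449f300005422000004624982498311136cc35044000000003433110408d300005422211362830000000000000000000000000000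0000000000000000000000000000000000000000000000000000000000000000000000000000000000000000000000002a13000000000000000000001522000000000000000000000000000000000000000000000000000000000000000000000000000000000000284200000000000000000000000000000000000000000000000000000000000000000000000000000000000000000000000000000000000016a30000000000000000000000001292000000000000000000000000000000000000000000000000000000000000157328430000000000000000000000000000343309530000000002530000542200004a04000000000000000000000000000000000000000000000000000000001113000000000000000000000000000000000000000054220000000000000000000060130000000000000000000000000000000000000000000000000000000000002113000000000000258300000000111311030000000000000000000000000000254300000000000000000000000000000382000000000000000000003433000000000000000000001a4225330000000000000000000000001e230000000000002842000000003663000000000000000000000000110300000383000014020cb3000000000000000000000000152300006003000000005042504315731104211121110000000000000000000000000000000000000000000000000000000000001e23000000000000000000000000000022930000000000000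000000000000000000000000000000000000000000000000000000000006c0200000000000000002843000000000000000000000000343400000000095200000000000028426cc30e8300000000000000000000000000000000000000000000000000000b5300000382000016a3000000000000000000000000000000001a421a42000017834a0200000000000000000383000000000000498300000000000028444532000000000000000000001573000022930cb300006cc100000000000000000000252360130463000000000000253300000000000000000000000000000000000000000000000000000000000000000000038234340000000000000b0300000000542400004a02000000000000000000000000000049820000000000006cc234313431000011040000000000006cc3000016a300000000000019c3343244431e2300001402140200000000000000000000000000001e2326a300000000284300000000624211030000000000000000000000000381229200004a0300002b0325230e430384038400004983000000002603000049f310a300000000000004620000046300002112000025330cb362430000453303830393106210621a4300000000343334346283000000000000000000000000000000000000000000000000000000000000000000000000229300000000000000000000000000000000000000004a010000000000000000000000000000000000000000000000000000095300000000000034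3300000000000000000000000000005e030000000000000d03046354234a030000000000000000000000000000000003840000000000000000111300000000038300000000000000000000000000000000000002f300004a01000000004a034a030000000000000382000000001e230000000028430000000000000000000049830000498300000000000019c32882288200000000284200000000498328431143000000000000000000000000000003820000000000005043000000000000000000000000000000000000038200004a0400000000000000000000000011031113000000000000000000000000000012935422000000000000000034313053542400003663000000000000000045330000000026a33433343300000cb3140250410000000000000000000000000000000000000000110311130000542300001a43000000000000038300005aa30381000000003663284300004a03722360144283000000000000110334335424000010a3000000000000046254240000000000004153000040d3129300005422504319c300005421229308d33433343300002a130000000000000000000000000000000000001a4200000000000000001783000000000000000000000000000000004a020000000000004a01000034332a132a130000000000000000000000000cb30384000000000000000000000463000049820000038300006cc31e22000000006cc30e830000000028430000000060126c030000000000000e8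30000229300000000000000004a0200000000000000001e2200000000000003830e830000038426a30000000000002b031e231e22000012930000000000000000000003832112000000004983284109520e8304232533284300000000498211030000415300004a035043253360140d03284328435e034a04000000000000000022920000000000000000000000002a13000010a30e420e43000000000000038300000000000011031e2300000383c28334332533000044830000453344820000000003840000542300000000253310620000254344420000000000000464258310a3542303832603000054210000254334323432542425430000000004630000000011040382000000000a230000000000002523038403841062038300001a43000003834a03628300000d03624262435423000028434a0300005043000003930000000019c349834442110219c319c3152314024983610340230000000028422533252348935003498325235043504340d31a4411010000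

/-- Entry of the table. -/
def ent (i : ℕ) : ℕ := (T >>> (16 * i)) % 65536

/-- Depth. -/
def dep (i : ℕ) : ℕ := ent i % 16

/-- Parent. -/
def par (i : ℕ) : ℕ := ent i / 16

/-- The indices of the twelve octads. -/
def basIdx : ℕ → ℕ
  | 0 => 1184
  | 1 => 1346
  | 2 => 56
  | 3 => 644
  | 4 => 1284
  | 5 => 835
  | 6 => 1740
  | 7 => 1092
  | 8 => 2324
  | 9 => 529
  | 10 => 272
  | _ => 273

/-- Boolean test for the twelve octads. -/
def isBas (i : ℕ) : Bool :=
  Nat.beq i 1184 || Nat.beq i 1346 || Nat.beq i 56 || Nat.beq i 644 || Nat.beq i 1284 || Nat.beq i 835 || Nat.beq i 1740 || Nat.beq i 1092 || Nat.beq i 2324 || Nat.beq i 529 || Nat.beq i 272 || Nat.beq i 273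

/-- The check. -/
def check (i : ℕ) : Bool :=
  !isO i || isBas i ||
    (isO (par i) && isO (i ^^^ par i) && Nat.blt (dep (par i)) (dep i) && Nat.blt (dep (i ^^^ par i)) (dep i) &&
      Nat.blt (par i) 4096)

theorem check_all : ∀ i, i < 2 ^ 12 → check i = true := by
  apply allR_zero_spec
  decide +kernel

/-- The twelve octads. -/
def bas (j : Fin 12) : golayCode := w (basIdx j)

theorem isO_bas : ∀ j : Fin 12, isO (basIdx j) = true := by decide +kernel

theorem wt_bas (j : Fin 12) : wt (bas j) = 8 := (isO_iff _).1 (isO_bas j)

theorem of_isBas {i : ℕ} (h : isBas i = true) : ∃ j : Fin 12, basIdx j = i := by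
  unfold isBas at h
  simp only [Bool.or_eq_true] at h
  rcases h with ((((((((((h | h) | h) | h) | h) | h) | h) | h) | h) | h) | h) | h
  · exact ⟨0, (Nat.eq_of_beq_eq_true h).symm⟩
  · exact ⟨1, (Nat.eq_of_beq_eq_true h).symm⟩
  · exact ⟨2, (Nat.eq_of_beq_eq_true h).symm⟩
  · exact ⟨3, (Nat.eq_of_beq_eq_true h).symm⟩
  · exact ⟨4, (Nat.eq_of_beq_eq_true h).symm⟩
  · exact ⟨5, (Nat.eq_of_beq_eq_true h).symm⟩
  · exact ⟨6, (Nat.eq_of_beq_eq_true h).symm⟩
  · exact ⟨7, (Nat.eq_of_beq_eq_true h).symm⟩
  · exact ⟨8, (Nat.eq_of_beq_eq_true h).symm⟩
  · exact ⟨9, (Nat.eq_of_beq_eq_true h).symm⟩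
  · exact ⟨10, (Nat.eq_of_beq_eq_true h).symm⟩
  · exact ⟨11, (Nat.eq_of_beq_eq_true h).symm⟩

theorem oct_induction {P : golayCode → Prop} (hb : ∀ j, P (bas j))
    (hadd : ∀ c d, wt c = 8 → wt d = 8 → wt (c + d) = 8 → P c → P d → P (c + d)) :
    ∀ c, wt c = 8 → P c := by
  have key : ∀ n i, i < 4096 → dep i < n → isO i = true → P (w i) := by
    intro n
    induction n with
    | zero => intro i _ h; omega
    | succ n ih =>
      intro i hi hn ho
      have hc := check_all i hi
      unfold check at hc
      rw [ho, Bool.not_true, Bool.false_or, Bool.or_eq_true] at hc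
      rcases hc with hc | hc
      · obtain ⟨j, rfl⟩ := of_isBas hc
        exact hb j
      · simp only [Bool.and_eq_true, Nat.blt_eq] at hc
        obtain ⟨⟨⟨⟨h1, h2⟩, h3⟩, h4⟩, h5⟩ := hc
        have h6 : i ^^^ par i < 4096 := Nat.xor_lt_two_pow (n := 12) hi h5
        have h7 := ih _ h5 (by omega) h1
        have h8 := ih _ h6 (by omega) h2
        have h9 : w (par i) + w (i ^^^ par i) = w i := by
          rw [← w_xor, Nat.xor_comm i, ← Nat.xor_assoc, Nat.xor_self, Nat.zero_xor]
        rw [← h9]
        exact hadd _ _ ((isO_iff _).1 h1) ((isO_iff _).1 h2) (by rw [h9]; exact (isO_iff _).1 ho) h7 h8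
  intro c hc
  obtain ⟨i, hi, rfl⟩ := exists_w c
  exact key _ i hi (Nat.lt_succ_self _) ((isO_iff i).2 hc)

/-- The intersection patterns `(4, 2, 2)`, `(4, 2, 4)`, `(2, 0, 2)` in terms of weights of sums. -/
theorem patterns : wt (w 1) = 8 ∧ wt (w 2) = 8 ∧ wt (w 1 + w 2) = 8 ∧
    (wt (w 24) = 8 ∧ wt (w 1 + w 24) = 8 ∧ wt (w 2 + w 24) = 12 ∧ wt (w 1 + w 2 + w 24) = 12) ∧
    (wt (w 32) = 8 ∧ wt (w 1 + w 32) = 8 ∧ wt (w 2 + w 32) = 12 ∧ wt (w 1 + w 2 + w 32) = 8) ∧
    (wt (w 376) = 8 ∧ wt (w 1 + w 376) = 12 ∧ wt (w 2 + w 376) = 16 ∧ wt (w 1 + w 2 + w 376) = 12) := by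
  simp only [← w_xor, wt_w]
  decide +kernel

end Cfsg.Agent.KFacts.MulCo.OctCert

end

-- merged: Cfsg.Agent.KFacts.MulCo.OctLift
section

/-!
# Lifting the Golay code to central extensions (helper927)

`Lift π ι κ`: `π : K → X` is a surjective homomorphism with central kernel, `ι` a homomorphism of the Golay code to `X`,
equivariant for `κ : M₂₄ → X`.

`Lift.exists_section`: `ι` lifts to an `M₂₄`-equivariant homomorphism `S` of the Golay code to `K`.

Proof: the octad stabilisers have no abelian quotients, so the octads lift equivariantly; commutators and squares of the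
lifts are constants, which the third octad operation of sextets kills (after a shift by a constant); a kernel
certificate (`OctCert.oct_induction`) shows that the lifts of all octads are determined by twelve of them.
-/

set_option autoImplicit false
open Cfsg

namespace Cfsg.Agent.KFacts.MulCo.OctLift

open Subgroup
open scoped commutatorElement
open Cfsg.Agent.SporadicA Cfsg.Agent.SporadicA.Co0Mono
open Cfsg.Agent.CoOneType.SignFacts (sup wt)
open Cfsg.Agent.SporadicStructure
open Cfsg.Agent.SporadicA.Co1Simple (wordPerm_mul wordPerm_one)
open OctCert OctStab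

/-! ### The linear structure -/

/-- Commuting involutions indexed by a basis define a homomorphism. -/
theorem exists_hom {V : Type*} [AddCommGroup V] [Module (ZMod 2) V] {n : ℕ} (b : Module.Basis (Fin n) (ZMod 2) V)
    {K : Type*} [Group K] (t : Fin n → K) (hcomm : ∀ i j, t i * t j = t j * t i) (hsq : ∀ i, t i * t i = 1) :
    ∃ S : V → K, (∀ c d, S (c + d) = S c * S d) ∧ ∀ i, S (b i) = t i := by
  have hc : ∀ x ∈ Set.range t, ∀ y ∈ Set.range t, x * y = y * x := by
    rintro _ ⟨i, rfl⟩ _ ⟨j, rfl⟩
    exact hcomm i j
  letI : CommGroup (closure (Set.range t)) := closureCommGroupOfComm hc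
  have hsq' : ∀ x : closure (Set.range t), x * x = 1 := by
    rintro ⟨x, hx⟩
    induction hx using closure_induction with
    | mem x hx =>
      obtain ⟨i, rfl⟩ := hx
      exact Subtype.ext (hsq i)
    | one => exact one_mul _
    | mul x y hx hy ihx ihy =>
      have e : (⟨x * y, mul_mem hx hy⟩ : closure (Set.range t)) = ⟨x, hx⟩ * ⟨y, hy⟩ := rfl
      rw [e, mul_mul_mul_comm, ihx, ihy, one_mul]
    | inv x hx ih =>
      have e : (⟨x⁻¹, inv_mem hx⟩ : closure (Set.range t)) = (⟨x, hx⟩)⁻¹ := rfl
      rw [e, ← mul_inv, ih, inv_one]
  letI : Module (ZMod 2) (Additive (closure (Set.range t))) := AddCommGroup.zmodModule (fun x => by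
    rw [two_nsmul]
    exact hsq' x.toMul)
  let f := b.constr (ZMod 2) (fun i => Additive.ofMul (⟨t i, subset_closure ⟨i, rfl⟩⟩ : closure (Set.range t)))
  refine ⟨fun c => ((f c).toMul : closure (Set.range t)), fun c d => ?_, fun i => ?_⟩
  · show (((f (c + d)).toMul : closure (Set.range t)) : K) = _
    rw [map_add]; rfl
  · have h1 := b.constr_basis (ZMod 2) (fun i => Additive.ofMul
      (⟨t i, subset_closure ⟨i, rfl⟩⟩ : closure (Set.range t))) i
    show (((f (b i)).toMul : closure (Set.range t)) : K) = t i
    rw [h1]; rfl

/-- The twelve octads form a basis of the code. -/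
theorem exists_basis : ∃ b : Module.Basis (Fin 12) (ZMod 2) golayCode, ∀ j, b j = bas j := by
  have h1 : ∀ c : golayCode, wt c = 8 → c ∈ Submodule.span (ZMod 2) (Set.range bas) := by
    apply oct_induction
    · exact fun j => Submodule.subset_span ⟨j, rfl⟩
    · intro c d _ _ _ hc hd
      exact Submodule.add_mem _ hc hd
  have h2 : ∀ c : golayCode, c ∈ Submodule.span (ZMod 2) (Set.range bas) := by
    rintro ⟨c, hc⟩
    have h3 := OctadSpan.golay_induction
      (P := fun v => ∀ h : v ∈ golayCode, (⟨v, h⟩ : golayCode) ∈ Submodule.span (ZMod 2) (Set.range bas))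
      (fun h => Submodule.zero_mem _) (fun v w hv hw h4 h5 h6 => Submodule.add_mem _ (h4 hv) (h5 hw))
      (fun w hw h8 h => h1 ⟨w, h⟩ h8) c hc
    exact h3 hc
  refine ⟨basisOfTopLeSpanOfCardEqFinrank bas (fun c _ => h2 c) ?_, fun j => ?_⟩
  · rw [Fintype.card_fin]
    exact Cfsg.Agent.S0358.result.symm
  · rw [coe_basisOfTopLeSpanOfCardEqFinrank]

/-- Homomorphisms on the code which agree on the octads are equal. -/
theorem hom_ext {K : Type*} [Group K] {S S' : golayCode → K} (h : ∀ c d, S (c + d) = S c * S d)
    (h' : ∀ c d, S' (c + d) = S' c * S' d) (ho : ∀ c, wt c = 8 → S c = S' c) : ∀ c, S c = S' c := by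
  have h0 : S 0 = 1 := by
    have := h 0 0
    rw [add_zero] at this
    exact (left_eq_mul.1 this)
  have h0' : S' 0 = 1 := by
    have := h' 0 0
    rw [add_zero] at this
    exact (left_eq_mul.1 this)
  rintro ⟨c, hc⟩
  exact OctadSpan.golay_induction (P := fun v => ∀ hv : v ∈ golayCode, S ⟨v, hv⟩ = S' ⟨v, hv⟩)
    (fun hv => by
      have e : (⟨0, hv⟩ : golayCode) = 0 := rfl
      rw [e, h0, h0'])
    (fun v w hv hw h4 h5 h6 => by
      have e : (⟨v + w, h6⟩ : golayCode) = ⟨v, hv⟩ + ⟨w, hw⟩ := rfl
      rw [e, h, h', h4, h5])
    (fun w hw h8 hv => ho ⟨w, hv⟩ h8) c hc hc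

/-! ### The setting -/

/-- `π` is a surjection with central kernel, `ι` is an equivariant homomorphism of the Golay code. -/
structure Lift {K X : Type*} [Group K] [Group X] (π : K →* X) (ι : golayCode → X) (κ : M24 →* X) : Prop where
  surj : Function.Surjective π
  ker : π.ker ≤ center K
  add : ∀ c d, ι (c + d) = ι c * ι d
  conj : ∀ m c, κ m * ι c * (κ m)⁻¹ = ι (wordPerm m c)

namespace Lift

variable {K X : Type*} [Group K] [Group X] {π : K →* X} {ι : golayCode → X} {κ : M24 →* X}
  (h : Lift π ι κ)

include h

theorem cen {x : K} (hx : π x = 1) (y : K) : x * y = y * x := (mem_center_iff.1 (h.ker hx) y).symm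

theorem comm (c d : golayCode) : ι c * ι d = ι d * ι c := by rw [← h.add, ← h.add, add_comm]

theorem self (c : golayCode) : ι c * ι c = 1 := by
  have h0 : ι 0 = 1 := by
    have := h.add 0 0
    rw [add_zero] at this
    exact (left_eq_mul.1 this)
  rw [← h.add, Co1Simple.signCo0_add_self, h0]

/-- A section of `π`. -/
noncomputable def sec (x : X) : K := Function.surjInv h.surj x

theorem π_sec (x : X) : π (h.sec x) = x := Function.surjInv_eq h.surj x

/-- The action of `m` on `K`. -/
noncomputable def act (m : M24) (x : K) : K := h.sec (κ m) * x * (h.sec (κ m))⁻¹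

theorem act_eq {k : K} {m : M24} (hk : π k = κ m) (x : K) : h.act m x = k * x * k⁻¹ := by
  unfold act
  have h1 : π (k⁻¹ * h.sec (κ m)) = 1 := by
    rw [map_mul, h.π_sec, map_inv, hk, inv_mul_cancel]
  have h2 := h.cen h1 x
  have h3 : h.sec (κ m) = k * (k⁻¹ * h.sec (κ m)) := by
    rw [mul_inv_cancel_left]
  rw [h3, mul_assoc k _ x, h2, mul_inv_rev]
  group

theorem π_act (m : M24) (x : K) : π (h.act m x) = κ m * π x * (κ m)⁻¹ := by
  unfold act
  rw [map_mul, map_mul, map_inv, h.π_sec]

theorem act_mul (m : M24) (x y : K) : h.act m (x * y) = h.act m x * h.act m y := by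
  unfold act; group

theorem act_inv (m : M24) (x : K) : h.act m x⁻¹ = (h.act m x)⁻¹ := by
  unfold act; group

theorem act_ker (m : M24) {x : K} (hx : π x = 1) : h.act m x = x := by
  unfold act
  rw [← h.cen hx, mul_inv_cancel_right]

theorem act_act (m n : M24) (x : K) : h.act m (h.act n x) = h.act (m * n) x := by
  rw [h.act_eq (k := h.sec (κ m) * h.sec (κ n)) (m := m * n)
    (by rw [map_mul, h.π_sec, h.π_sec, map_mul])]
  unfold act
  group

theorem act_one (x : K) : h.act 1 x = x := by
  rw [h.act_eq (k := 1) (by rw [map_one, map_one]), one_mul, inv_one, mul_one]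

theorem act_inj (m : M24) {x y : K} (hxy : h.act m x = h.act m y) : x = y := by
  have := congrArg (h.act m⁻¹) hxy
  rwa [h.act_act, h.act_act, inv_mul_cancel, h.act_one, h.act_one] at this

/-- The stabiliser of an octad centralises the lifts of the octad. -/
theorem act_fix {c : golayCode} (hc : wt c = 8) {m : M24} (hm : wordPerm m c = c) {x : K} (hx : π x = ι c) :
    h.act m x = x := by
  have hπ : ∀ n : ↥(St c), π (h.act n x * x⁻¹) = 1 := by
    intro n
    rw [map_mul, h.π_act, map_inv, hx, h.conj, mem_St.1 n.2, mul_inv_cancel]
  letI : CommGroup (center K) := { (inferInstance : Group (center K)) with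
    mul_comm := fun a b => Subtype.ext (mem_center_iff.1 b.2 a) }
  let z : ↥(St c) →* center K :=
    { toFun := fun n => ⟨h.act n x * x⁻¹, h.ker (hπ n)⟩
      map_one' := by
        apply Subtype.ext
        show h.act ((1 : ↥(St c)) : M24) x * x⁻¹ = 1
        rw [coe_one, h.act_one, mul_inv_cancel]
      map_mul' := fun a b => by
        apply Subtype.ext
        show h.act ((a * b : ↥(St c)) : M24) x * x⁻¹ = (h.act a x * x⁻¹) * (h.act b x * x⁻¹)
        have h1 : h.act b x = (h.act b x * x⁻¹) * x := by rw [inv_mul_cancel_right]
        rw [coe_mul, ← h.act_act, h1, h.act_mul, h.act_ker _ (hπ b), mul_inv_cancel_right, mul_assoc,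
          h.cen (hπ b)] }
  have h1 := congrArg (Subtype.val : center K → K) (hom_eq_one hc z ⟨m, hm⟩)
  have h2 : h.act m x * x⁻¹ = 1 := h1
  exact mul_inv_eq_one.1 h2

/-- Equivariant lifts of the octads. -/
theorem exists_s : ∃ s : golayCode → K, (∀ c, wt c = 8 → π (s c) = ι c) ∧
    ∀ c m, wt c = 8 → h.act m (s c) = s (wordPerm m c) := by
  classical
  have h0 : wt (w 1) = 8 := patterns.1
  obtain ⟨x₀, hx₀⟩ := h.surj (ι (w 1))
  refine ⟨fun c => if hc : wt c = 8 then h.act (Classical.choose (exists_oct h0 hc)) x₀ else 1, ?_, ?_⟩
  · intro c hc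
    have h1 := Classical.choose_spec (exists_oct h0 hc)
    simp only [dif_pos hc]
    rw [h.π_act, hx₀, h.conj, h1]
  · intro c m hc
    have hc' : wt (wordPerm m c) = 8 := by rw [wt_wordPerm, hc]
    have h1 := Classical.choose_spec (exists_oct h0 hc)
    have h2 := Classical.choose_spec (exists_oct h0 hc')
    simp only [dif_pos hc, dif_pos hc']
    set a := Classical.choose (exists_oct h0 hc)
    set b := Classical.choose (exists_oct h0 hc')
    rw [h.act_act]
    have h3 : wordPerm (b⁻¹ * (m * a)) (w 1) = w 1 := by
      rw [wordPerm_mul, wordPerm_mul, h1, ← h2, wordPerm_inv_wordPerm]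
    have h4 := h.act_fix h0 h3 hx₀
    conv_rhs => rw [← h4]
    rw [h.act_act, mul_inv_cancel_left]

variable {s : golayCode → K} (hs : ∀ c, wt c = 8 → π (s c) = ι c)
  (heq : ∀ c m, wt c = 8 → h.act m (s c) = s (wordPerm m c))

include hs heq

theorem comm_const {c d c' d' : golayCode} (hc : wt c = 8) (hd : wt d = 8) (hc' : wt c' = 8) (hd' : wt d' = 8)
    (hw : wt (c + d) = wt (c' + d')) : ⁅s c, s d⁆ = ⁅s c', s d'⁆ := by
  obtain ⟨m, h1, h2⟩ := exists_pair hc hd hc' hd' hw
  have h3 : π ⁅s c, s d⁆ = 1 := by
    rw [map_commutatorElement, hs c hc, hs d hd, commutatorElement_eq_one_iff_mul_comm]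
    exact h.comm c d
  have h4 := h.act_ker m h3
  rw [← h4]
  simp only [commutatorElement_def, h.act_mul, h.act_inv, heq c m hc, heq d m hd, h1, h2]

theorem comm_mul {c d p : golayCode} (hc : wt c = 8) (hd : wt d = 8) (hcd : wt (c + d) = 8) (hp : wt p = 8) :
    ⁅s (c + d), s p⁆ = ⁅s c, s p⁆ * ⁅s d, s p⁆ := by
  have h1 : π ((s (c + d))⁻¹ * (s c * s d)) = 1 := by
    rw [map_mul, map_inv, map_mul, hs _ hcd, hs _ hc, hs _ hd, h.add, inv_mul_cancel]
  have h2 : s c * s d = s (c + d) * ((s (c + d))⁻¹ * (s c * s d)) := by rw [mul_inv_cancel_left]
  have h3 : ⁅s c * s d, s p⁆ = ⁅s (c + d), s p⁆ := by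
    rw [h2]
    generalize (s (c + d))⁻¹ * (s c * s d) = ζ at h1
    rw [commutatorElement_def, commutatorElement_def, mul_assoc (s (c + d)) ζ, h.cen h1, mul_inv_rev]
    group
  have h4 : π ⁅s d, s p⁆ = 1 := by
    rw [map_commutatorElement, hs d hd, hs p hp, commutatorElement_eq_one_iff_mul_comm]
    exact h.comm d p
  rw [← h3]
  have h5 : ⁅s c * s d, s p⁆ = s c * ⁅s d, s p⁆ * (s c)⁻¹ * ⁅s c, s p⁆ := by
    simp only [commutatorElement_def]; group
  rw [h5, ← h.cen h4, mul_inv_cancel_right, h.cen h4]

/-- The lifts commute. -/
theorem s_comm {c d : golayCode} (hc : wt c = 8) (hd : wt d = 8) : s c * s d = s d * s c := by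
  obtain ⟨p1, p2, p3, ⟨q1, q2, q3, q4⟩, ⟨r1, r2, r3, r4⟩, ⟨t1, t2, t3, t4⟩⟩ := patterns
  have e4 : ⁅s (w 1), s (w 24)⁆ = 1 := by
    have h1 := h.comm_mul hs heq p1 p2 p3 q1
    have h2 := h.comm_const hs heq p3 q1 p2 q1 (by rw [q4, q3])
    rw [h2] at h1
    exact (right_eq_mul.1 h1)
  have e2 : ⁅s (w 2), s (w 32)⁆ = 1 := by
    have h1 := h.comm_mul hs heq p1 p2 p3 r1
    have h2 := h.comm_const hs heq p3 r1 p1 r1 (by rw [r4, r2])
    rw [h2] at h1
    exact (left_eq_mul.1 h1)
  have e0 : ⁅s (w 2), s (w 376)⁆ = 1 := by
    have h1 := h.comm_mul hs heq p1 p2 p3 t1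
    have h2 := h.comm_const hs heq p3 t1 p1 t1 (by rw [t4, t2])
    rw [h2] at h1
    exact (left_eq_mul.1 h1)
  rw [← commutatorElement_eq_one_iff_mul_comm]
  have h3 := wt_add c d
  rcases Cfsg.Agent.CoOneType.SignFacts.wt_cases (c + d) with h1 | h1 | h1 | h1 | h1
  · have h2 : c = d := by
      have h4 : sup (c + d) = sup 0 := by
        have h5 : sup (c + d) = ∅ := Finset.card_eq_zero.1 h1
        have h6 : sup (0 : golayCode) = ∅ := by
          apply Finset.eq_empty_of_forall_notMem
          intro i hi
          rw [Cfsg.Agent.CoOneType.SignFacts.mem_sup] at hi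
          exact zero_ne_one hi
        rw [h5, h6]
      have h7 := sup_inj h4
      have h8 : c + d + d = 0 + d := by rw [h7]
      rwa [add_assoc, Co1Simple.signCo0_add_self, add_zero, zero_add] at h8
    rw [h2, commutatorElement_self]
  · rw [h.comm_const hs heq hc hd p1 q1 (by rw [h1, q2]), e4]
  · rw [h.comm_const hs heq hc hd p2 r1 (by rw [h1, r3]), e2]
  · rw [h.comm_const hs heq hc hd p2 t1 (by rw [h1, t3]), e0]
  · omega

/-- The third octad operation up to a constant. -/
theorem exists_zeta : ∃ ζ : K, π ζ = 1 ∧ ∀ c d, wt c = 8 → wt d = 8 → wt (c + d) = 8 →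
    s c * s d = s (c + d) * ζ := by
  obtain ⟨p1, p2, p3, -⟩ := patterns
  refine ⟨(s (w 1 + w 2))⁻¹ * (s (w 1) * s (w 2)), ?_, ?_⟩
  · rw [map_mul, map_inv, map_mul, hs _ p1, hs _ p2, hs _ p3, h.add, inv_mul_cancel]
  · intro c d hc hd hcd
    obtain ⟨m, h1, h2⟩ := exists_pair p1 p2 hc hd (by rw [p3, hcd])
    have h3 : π ((s (w 1 + w 2))⁻¹ * (s (w 1) * s (w 2))) = 1 := by
      rw [map_mul, map_inv, map_mul, hs _ p1, hs _ p2, hs _ p3, h.add, inv_mul_cancel]
    have h4 := h.act_ker m h3
    rw [h.act_mul, h.act_mul, h.act_inv, heq _ m p1, heq _ m p2, heq _ m p3, wordPerm_add, h1, h2] at h4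
    rw [← h4, mul_inv_cancel_left]

end Lift

/-- Equivariant lifts of the octads: commuting involutions respecting the third octad operation. -/
theorem Lift.exists_t {K X : Type*} [Group K] [Group X] {π : K →* X} {ι : golayCode → X} {κ : M24 →* X}
    (h : Lift π ι κ) : ∃ t : golayCode → K, (∀ c, wt c = 8 → π (t c) = ι c) ∧
    (∀ c m, wt c = 8 → h.act m (t c) = t (wordPerm m c)) ∧
    (∀ c d, wt c = 8 → wt d = 8 → t c * t d = t d * t c) ∧ (∀ c, wt c = 8 → t c * t c = 1) ∧
    ∀ c d, wt c = 8 → wt d = 8 → wt (c + d) = 8 → t c * t d = t (c + d) := by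
  obtain ⟨s, hs, heq⟩ := h.exists_s
  obtain ⟨ζ, hζ, hz⟩ := h.exists_zeta hs heq
  have hζ' : π ζ⁻¹ = 1 := by rw [map_inv, hζ, inv_one]
  have hcomm : ∀ c d, wt c = 8 → wt d = 8 → s c * ζ⁻¹ * (s d * ζ⁻¹) = s d * ζ⁻¹ * (s c * ζ⁻¹) := by
    intro c d hc hd
    have h1 := h.s_comm hs heq hc hd
    calc s c * ζ⁻¹ * (s d * ζ⁻¹) = s c * (ζ⁻¹ * s d) * ζ⁻¹ := by group
      _ = s c * s d * ζ⁻¹ * ζ⁻¹ := by rw [h.cen hζ']; group
      _ = s d * (s c * ζ⁻¹) * ζ⁻¹ := by rw [h1]; group
      _ = s d * (ζ⁻¹ * s c) * ζ⁻¹ := by rw [h.cen hζ' (s c)]
      _ = _ := by group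
  have hadd : ∀ c d, wt c = 8 → wt d = 8 → wt (c + d) = 8 → s c * ζ⁻¹ * (s d * ζ⁻¹) = s (c + d) * ζ⁻¹ := by
    intro c d hc hd hcd
    have h1 := hz c d hc hd hcd
    calc s c * ζ⁻¹ * (s d * ζ⁻¹) = s c * (ζ⁻¹ * s d) * ζ⁻¹ := by group
      _ = s c * s d * ζ⁻¹ * ζ⁻¹ := by rw [h.cen hζ']; group
      _ = _ := by rw [h1]; group
  have heq' : ∀ c m, wt c = 8 → h.act m (s c * ζ⁻¹) = s (wordPerm m c) * ζ⁻¹ := by
    intro c m hc
    rw [h.act_mul, h.act_ker m hζ', heq c m hc]
  have hπ : ∀ c, wt c = 8 → π (s c * ζ⁻¹) = ι c := by
    intro c hc
    rw [map_mul, hζ', mul_one, hs c hc]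
  refine ⟨fun c => s c * ζ⁻¹, hπ, heq', hcomm, ?_, hadd⟩
  -- the squares
  obtain ⟨p1, p2, p3, -⟩ := patterns
  have hW : π ((s (w 1) * ζ⁻¹) * (s (w 1) * ζ⁻¹)) = 1 := by
    rw [map_mul, hπ _ p1, h.self]
  have hconst : ∀ c, wt c = 8 → s c * ζ⁻¹ * (s c * ζ⁻¹) = (s (w 1) * ζ⁻¹) * (s (w 1) * ζ⁻¹) := by
    intro c hc
    obtain ⟨m, hm⟩ := exists_oct p1 hc
    have h1 := h.act_ker m hW
    rw [h.act_mul, heq' _ m p1, hm] at h1
    exact h1
  intro c hc
  have h1 := hconst c hc
  show s c * ζ⁻¹ * (s c * ζ⁻¹) = 1
  rw [h1]
  have h2 := hconst _ p3
  have h3 := hadd _ _ p1 p2 p3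
  have h4 := hconst _ p2
  rw [← h3] at h2
  have h5 := hcomm _ _ p1 p2
  set a := s (w 1) * ζ⁻¹
  set b := s (w 2) * ζ⁻¹
  have h6 : a * b * (a * b) = (a * a) * (b * b) := by
    calc a * b * (a * b) = a * (b * a) * b := by group
      _ = a * (a * b) * b := by rw [← h5]
      _ = _ := by group
  rw [h6, h4] at h2
  exact (left_eq_mul.1 h2.symm)

/-- **The lift of the Golay code.** -/
theorem Lift.exists_section {K X : Type*} [Group K] [Group X] {π : K →* X} {ι : golayCode → X} {κ : M24 →* X}
    (h : Lift π ι κ) : ∃ S : golayCode → K, (∀ c d, S (c + d) = S c * S d) ∧ (∀ c, π (S c) = ι c) ∧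
    ∀ (k : K) (m : M24), π k = κ m → ∀ c, k * S c * k⁻¹ = S (wordPerm m c) := by
  obtain ⟨t, hπ, heq, hcomm, hsq, hadd⟩ := h.exists_t
  obtain ⟨b, hb⟩ := exists_basis
  obtain ⟨S, hS, hSb⟩ := exists_hom b (fun j => t (bas j)) (fun i j => hcomm _ _ (wt_bas i) (wt_bas j))
    (fun i => hsq _ (wt_bas i))
  have hSt : ∀ c, wt c = 8 → S c = t c := by
    apply oct_induction
    · intro j
      rw [← hb j, hSb, hb]
    · intro c d hc hd hcd h1 h2
      rw [hS, h1, h2, hadd c d hc hd hcd]
  refine ⟨S, hS, ?_, ?_⟩
  · refine hom_ext (S := fun c => π (S c)) (fun c d => ?_) h.add (fun c hc => ?_)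
    · rw [hS, map_mul]
    · rw [hSt c hc, hπ c hc]
  · intro k m hk
    refine hom_ext (S := fun c => k * S c * k⁻¹) (S' := fun c => S (wordPerm m c)) (fun c d => ?_)
      (fun c d => ?_) (fun c hc => ?_)
    · rw [hS]; group
    · rw [wordPerm_add, hS]
    · have hc' : wt (wordPerm m c) = 8 := by rw [wt_wordPerm, hc]
      show k * S c * k⁻¹ = S (wordPerm m c)
      rw [hSt c hc, hSt _ hc', ← heq c m hc, h.act_eq hk]

end Cfsg.Agent.KFacts.MulCo.OctLift

end

-- merged: Cfsg.Agent.KFacts.MulCo.Core
section

/-!
# Groups with a subgroup `C : M₂₄` of odd index, `C` the Golay code or the Golay code modulo the all-one word (helper927)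

`Gol ι κ P`: `P = ι(C) κ(M₂₄)` is a subgroup of odd index of `X`, the kernel of `ι` is `0` or `⟨allOne⟩`.

* `Gol.card_ker_le`: if `M₂₄` has no perfect double cover, then the kernel of a central extension `K → X`, `K` finite
  perfect, has 2-part at most 2; precisely `|ker|` is odd or the kernel is of index odd over `⟨S(allOne)⟩`.
-/

set_option autoImplicit false
open Cfsg

namespace Cfsg.Agent.KFacts.MulCo.Core

open Subgroup Cfsg.Agent.KFacts.MulTwo Cfsg.Agent.KFacts.MulDef
open Cfsg.Agent.SporadicA Cfsg.Agent.SporadicA.Co0Mono
open Cfsg.Agent.SporadicA.Co1Simple (allOne wordPerm_mul wordPerm_one signCo0_add_self)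
open Cfsg.Agent.KFacts.MulCo.OctLift
open scoped commutatorElement

theorem commutator_M24 : commutator M24 = ⊤ := by
  rcases Cfsg.Agent.S0365.result.eq_bot_or_eq_top_of_normal (commutator M24) inferInstance with
    h | h
  · exfalso
    have hcomm : ∀ a b : M24, a * b = b * a := by
      intro a b
      have h1 : ⁅a, b⁆ ∈ commutator M24 :=
        Subgroup.commutator_mem_commutator (Subgroup.mem_top a) (Subgroup.mem_top b)
      rw [h, Subgroup.mem_bot, commutatorElement_eq_one_iff_mul_comm] at h1
      exact h1
    let _ : CommGroup M24 := { (inferInstance : Group M24) with mul_comm := hcomm }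
    have : IsSimpleGroup M24 := Cfsg.Agent.S0365.result
    have h2 : (Nat.card M24).Prime := IsSimpleGroup.prime_card
    rw [Cfsg.Agent.S0364.result] at h2
    exact absurd h2 (by norm_num)
  · exact h

/-- `P = ι(C) κ(M₂₄)`, of odd index. -/
structure Gol {X : Type*} [Group X] (ι : golayCode → X) (κ : M24 →* X) (P : Subgroup X) : Prop where
  add : ∀ c d, ι (c + d) = ι c * ι d
  conj : ∀ m c, κ m * ι c * (κ m)⁻¹ = ι (wordPerm m c)
  inj : ∀ w σ, ι w * κ σ = 1 → σ = 1 ∧ (w = 0 ∨ w = allOne)
  mem : ∀ x, x ∈ P ↔ ∃ w σ, x = ι w * κ σ
  odd : ¬ 2 ∣ P.index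

namespace Gol

variable {X : Type*} [Group X] {ι : golayCode → X} {κ : M24 →* X} {P : Subgroup X} (h : Gol ι κ P)

include h

theorem ι_zero : ι 0 = 1 := by
  have := h.add 0 0
  rw [add_zero] at this
  exact (left_eq_mul.1 this)

theorem κ_inj : Function.Injective κ := by
  rw [injective_iff_map_eq_one]
  intro σ hσ
  exact (h.inj 0 σ (by rw [h.ι_zero, hσ, one_mul])).1

theorem lift {K : Type*} [Group K] {π : K →* X} (hs : Function.Surjective π) (hk : π.ker ≤ center K) :
    Lift π ι κ := ⟨hs, hk, h.add, h.conj⟩

/-- No double cover of `X` in which the all-one word lifts trivially. -/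
theorem false_of_dbl (hM : NoDouble M24) {L : Type*} [Group L] [Finite L] {π : L →* X} {c : L} (hd : Dbl π c)
    {S : golayCode → L} (hS : ∀ a b, S (a + b) = S a * S b) (hπ : ∀ a, π (S a) = ι a)
    (heq : ∀ (k : L) (m : M24), π k = κ m → ∀ a, k * S a * k⁻¹ = S (wordPerm m a)) (h1 : S allOne = 1) : False := by
  have hS0 : S 0 = 1 := by
    have := hS 0 0
    rw [add_zero] at this
    exact (left_eq_mul.1 this)
  have hSS : ∀ a, S a * S a = 1 := fun a => by rw [← hS, signCo0_add_self, hS0]
  -- the double cover of `M₂₄`
  let M : Subgroup L := κ.range.comap π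
  have hcM : c ∈ M := by
    rw [mem_comap, (hd.ker c).2 (Or.inr rfl)]
    exact one_mem _
  let e := (MonoidHom.ofInjective h.κ_inj).symm
  let ρ : M →* M24 := e.toMonoidHom.comp (π.subgroupComap κ.range)
  have hρ : ∀ x : M, κ (ρ x) = π x := by
    intro x
    have h2 : MonoidHom.ofInjective h.κ_inj (ρ x) = π.subgroupComap κ.range x :=
      (MonoidHom.ofInjective h.κ_inj).apply_symm_apply _
    exact congrArg Subtype.val h2
  have hρs : Function.Surjective ρ := by
    intro σ
    obtain ⟨x, hx⟩ := hd.surj (κ σ)
    have hxM : x ∈ M := by rw [mem_comap, hx]; exact ⟨σ, rfl⟩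
    refine ⟨⟨x, hxM⟩, h.κ_inj ?_⟩
    rw [hρ]; exact hx
  have hρk : ∀ x : M, ρ x = 1 ↔ x = 1 ∨ x = ⟨c, hcM⟩ := by
    intro x
    rw [← map_eq_one_iff κ h.κ_inj, hρ, hd.ker, Subtype.ext_iff, Subtype.ext_iff]
    rfl
  obtain ⟨k1, k2⟩ := Quot.compl_of_noDouble commutator_M24 hM hρs (c := (⟨c, hcM⟩ : M))
    (fun h2 => hd.ne (congrArg Subtype.val h2)) (Subtype.ext hd.sq)
    (fun x => Subtype.ext (hd.cen x)) hρk
  -- the complement in the preimage of `P`
  let P₁ : Subgroup L :=
    { carrier := {x | ∃ a, ∃ m : M, m ∈ commutator M ∧ x = S a * m}
      one_mem' := ⟨0, 1, one_mem _, by rw [hS0, one_mul]; rfl⟩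
      mul_mem' := by
        rintro _ _ ⟨a, m, hm, rfl⟩ ⟨b, n, hn, rfl⟩
        refine ⟨a + wordPerm (ρ m) b, m * n, mul_mem hm hn, ?_⟩
        rw [hS, ← heq m (ρ m) (hρ m).symm b, coe_mul]
        group
      inv_mem' := by
        rintro _ ⟨a, m, hm, rfl⟩
        refine ⟨wordPerm (ρ m)⁻¹ a, m⁻¹, inv_mem hm, ?_⟩
        have h2 : (S a)⁻¹ = S a := inv_eq_of_mul_eq_one_left (hSS a)
        have h3 := heq (m : L) (ρ m) (hρ m).symm (wordPerm (ρ m)⁻¹ a)
        have h4 : wordPerm (ρ m) (wordPerm (ρ m)⁻¹ a) = a := by
          rw [← wordPerm_mul, mul_inv_cancel, wordPerm_one]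
        rw [h4] at h3
        rw [mul_inv_rev, h2, ← h3, coe_inv]
        group }
  have hc1 : c ∉ P₁ := by
    rintro ⟨a, m, hm, h2⟩
    have h3 : ι a * κ (ρ m) = 1 := by
      rw [← hπ, hρ, ← map_mul, ← h2, (hd.ker c).2 (Or.inr rfl)]
    obtain ⟨-, h4⟩ := h.inj _ _ h3
    have h5 : S a = 1 := by
      rcases h4 with h4 | h4
      · rw [h4, hS0]
      · rw [h4, h1]
    rw [h5, one_mul] at h2
    apply k1
    have h6 : (⟨c, hcM⟩ : M) = m := Subtype.ext h2
    rw [h6]; exact hm
  have hcP : c ∈ P.comap π := by
    rw [mem_comap, (hd.ker c).2 (Or.inr rfl)]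
    exact one_mem _
  refine hd.toCtr.false_of_compl (P := P.comap π) (P₁ := P₁) hcP ?_ hc1 ?_
  · rw [index_comap_of_surjective P hd.surj]
    exact h.odd
  · intro x hx
    obtain ⟨a, σ, h2⟩ := (h.mem _).1 (mem_comap.1 hx)
    obtain ⟨m, hm⟩ := hρs σ
    have h3 : π ((S a * (m : L))⁻¹ * x) = 1 := by
      rw [map_mul, map_inv, map_mul, hπ, ← hρ, hm, h2, inv_mul_cancel]
    have hcc := hd.sq
    have h5 : c * x = S a * ((⟨c, hcM⟩ * m : M) : L) * ((S a * (m : L))⁻¹ * x) := by
      rw [coe_mul]
      have h6 := hd.cen (S a)
      calc c * x = (c * S a) * ((m : L) * ((S a * (m : L))⁻¹ * x)) := by group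
        _ = (S a * c) * ((m : L) * ((S a * (m : L))⁻¹ * x)) := by rw [h6]
        _ = _ := by group
    have h4 : x = S a * (m : L) * ((S a * (m : L))⁻¹ * x) := by group
    rcases (hd.ker _).1 h3 with h7 | h7
    · rw [h7, mul_one] at h4 h5
      rcases k2 m with h8 | h8
      · left; exact ⟨a, m, h8, h4⟩
      · right; exact ⟨a, _, h8, h5⟩
    · rw [h7] at h4 h5
      have h9 : x = S a * ((⟨c, hcM⟩ * m : M) : L) := by
        rw [h4, coe_mul]
        show S a * (m : L) * c = S a * (c * m)
        rw [mul_assoc, hd.cen]
      have h10 : c * x = S a * (m : L) := by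
        rw [h4]
        calc c * (S a * (m : L) * c) = (S a * (m : L) * c) * c := by rw [hd.cen]
          _ = S a * (m : L) * (c * c) := by group
          _ = _ := by rw [hcc, mul_one]
      rcases k2 m with h8 | h8
      · right; exact ⟨a, m, h8, h10⟩
      · left; exact ⟨a, _, h8, h9⟩

/-- The kernel of a perfect central extension is `⟨S(allOne)⟩` up to odd index. -/
theorem odd_relIndex (hM : NoDouble M24) {K : Type*} [Group K] [Finite K] (hK : commutator K = ⊤) {π : K →* X}
    (hs : Function.Surjective π) (hk : π.ker ≤ center K) (h1 : ι allOne = 1) :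
    ∃ e : K, e ∈ π.ker ∧ e * e = 1 ∧ ¬ 2 ∣ (zpowers e).relIndex π.ker := by
  obtain ⟨S, hS, hπ, heq⟩ := (h.lift hs hk).exists_section
  have hS0 : S 0 = 1 := by
    have := hS 0 0
    rw [add_zero] at this
    exact (left_eq_mul.1 this)
  have hek : S allOne ∈ π.ker := by rw [MonoidHom.mem_ker, hπ, h1]
  refine ⟨S allOne, hek, by rw [← hS, signCo0_add_self, hS0], fun h2 => ?_⟩
  obtain ⟨Z₀, hn, hle, c, hY, hd⟩ := Quot.exists_dbl hK hs hk (Y := zpowers (S allOne))
    (by rw [zpowers_le]; exact hek) h2
  refine h.false_of_dbl hM hd (S := fun a => QuotientGroup.mk' Z₀ (S a)) (fun a b => ?_) (fun a => ?_) ?_ ?_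
  · rw [hS, map_mul]
  · exact hπ a
  · intro k m hkm a
    obtain ⟨k, rfl⟩ := QuotientGroup.mk'_surjective Z₀ k
    rw [← map_inv, ← map_mul, ← map_mul, heq k m hkm a]
  · exact (QuotientGroup.eq_one_iff _).2 (hY (mem_zpowers _))

/-- The kernel of a perfect central extension by a 2-group has order at most 2. -/
theorem card_ker_le (hM : NoDouble M24) {K : Type*} [Group K] [Finite K] (hK : commutator K = ⊤) {π : K →* X}
    (hs : Function.Surjective π) (hk : π.ker ≤ center K) (h1 : ι allOne = 1) (h2 : IsPGroup 2 π.ker) :
    Nat.card π.ker ≤ 2 := by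
  obtain ⟨e, he, hee, hidx⟩ := h.odd_relIndex hM hK hs hk h1
  have h3 : (zpowers e).relIndex π.ker = 1 := by
    obtain ⟨n, hn⟩ := IsPGroup.iff_card.1 h2
    have h4 : (zpowers e).relIndex π.ker ∣ 2 ^ n := by rw [← hn]; exact (zpowers e).relIndex_dvd_card π.ker
    obtain ⟨j, -, hj⟩ := (Nat.dvd_prime_pow Nat.prime_two).1 h4
    rcases Nat.eq_zero_or_pos j with rfl | hj'
    · rw [hj, pow_zero]
    · exact absurd (hj ▸ dvd_pow_self 2 hj'.ne') hidx
  have h4 : π.ker ≤ zpowers e := relIndex_eq_one.1 h3
  have h5 : Nat.card (zpowers e) ≤ 2 := by
    rw [Nat.card_zpowers]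
    exact Nat.le_of_dvd (by norm_num) (orderOf_dvd_of_pow_eq_one (by rw [pow_two, hee]))
  exact (Nat.card_mono (Set.toFinite _) h4).trans h5

end Gol

end Cfsg.Agent.KFacts.MulCo.Core

end

-- merged: Cfsg.Agent.KFacts.MulCo.Co1
section

/-!
# The 2-part of the Schur multiplier of `Co₁` (helper927)

`mem_center`, `s_eq_one`, `gol`: the subgroup `2¹¹ : M₂₄` of `Co₁`.

* `card_ker_le`: if `M₂₄` has no perfect double cover and `K` is a finite perfect group with a homomorphism onto `Co₁`
  whose kernel is a central 2-subgroup, then the kernel has order at most 2.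
* `card_two_part_le`: without the assumption on 2-groups: the kernel has a subgroup of odd index and order at most 2.
-/

set_option autoImplicit false
open Cfsg

namespace Cfsg.Agent.KFacts.MulCo.Co1

open Subgroup Cfsg.Agent.KFacts.MulTwo Cfsg.Agent.KFacts.MulDef
open Cfsg.Agent.SporadicA Cfsg.Agent.SporadicA.Co0Mono
open Cfsg.Agent.SporadicA.Co1Simple
open Cfsg.Agent.SporadicStructure.Co0Base (e8 e8_coe)
open Cfsg.Agent.SporadicStructure.LeechBase (zmod2_cases)
open Cfsg.Agent.KFacts.MulCo.Core

theorem sign_eq_one {c : golayCode} (h : signCo0 c = 1) : c = 0 := by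
  apply Subtype.ext
  funext i
  have h1 : signCo0 c • e8 i = e8 i := by rw [h, one_smul]
  have h2 := congrArg (fun v : leechLattice => (v : GolayPt → ℤ) i) h1
  simp only [signCo0_smul, signMap_apply, e8_coe, Pi.single_eq_same] at h2
  rcases zmod2_cases ((c : GolayPt → ZMod 2) i) with h3 | h3
  · exact h3
  · rw [h3, sgn_one] at h2
    norm_num at h2

theorem sign_eq {c d : golayCode} (h : signCo0 c = signCo0 d) : c = d := by
  have h1 : signCo0 (c + d) = 1 := by
    rw [signCo0_add, h, signCo0_mul_self]
  have h2 := sign_eq_one h1
  have h3 : c + d + d = d := by rw [h2, zero_add]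
  rwa [add_assoc, signCo0_add_self, add_zero] at h3

theorem allOne_ne_zero : allOne ≠ 0 := by
  intro h
  have h1 := congrArg (fun c : golayCode => (c : GolayPt → ZMod 2) none) h
  have h2 : (1 : ZMod 2) = 0 := h1
  exact absurd h2 (by decide)

theorem mem_center {g : Co0} : g ∈ center Co0 ↔ g = 1 ∨ g = signCo0 allOne := by
  constructor
  · intro hg
    by_contra hcon
    push Not at hcon
    have h2 : Nat.card (center Co0) = 2 := Cfsg.Agent.S0398.result
    obtain ⟨y, hy, hy'⟩ := (Nat.card_eq_two_iff' (1 : center Co0)).1 h2
    have h3 : (⟨g, hg⟩ : center Co0) = y := hy' _ (fun h => hcon.1 (congrArg Subtype.val h))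
    have h4 : (⟨signCo0 allOne, allOne_mem_center⟩ : center Co0) = y :=
      hy' _ (fun h => allOne_ne_zero (sign_eq_one (congrArg Subtype.val h)))
    exact hcon.2 (congrArg Subtype.val (h3.trans h4.symm))
  · rintro (rfl | rfl)
    · exact one_mem _
    · exact allOne_mem_center

/-- Sign changes in `Co₁`. -/
def s (c : golayCode) : Cfsg.Spor.Co1 := QuotientGroup.mk' (center Co0) (signCo0 c)

/-- Permutations in `Co₁`. -/
def p : M24 →* Cfsg.Spor.Co1 := (QuotientGroup.mk' (center Co0)).comp permCo0

theorem s_allOne : s allOne = 1 := (QuotientGroup.eq_one_iff _).2 allOne_mem_center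

theorem s_eq_one {c : golayCode} (h : s c = 1) : c = 0 ∨ c = allOne := by
  rcases mem_center.1 ((QuotientGroup.eq_one_iff _).1 h) with h1 | h1
  · exact Or.inl (sign_eq_one h1)
  · exact Or.inr (sign_eq h1)

instance finite_co0 : Finite Co0 :=
  Nat.finite_of_card_ne_zero (by rw [Cfsg.Agent.S0397.result]; norm_num)

theorem index_N : N.index = 8292375 := by
  have h := N.card_mul_index
  rw [Cfsg.Agent.S0397.result, Cfsg.Agent.S0399.card_N] at h
  omega

theorem center_le_N : center Co0 ≤ N := by
  intro g hg
  rcases mem_center.1 hg with rfl | rfl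
  · exact one_mem _
  · exact sign_mem_N _

/-- The subgroup `2¹¹ : M₂₄` of odd index. -/
theorem gol : Gol s p (N.map (QuotientGroup.mk' (center Co0))) where
  add c d := by
    unfold s
    rw [signCo0_add, map_mul]
  conj m c := by
    show QuotientGroup.mk' _ (permCo0 m) * QuotientGroup.mk' _ (signCo0 c) * (QuotientGroup.mk' _ (permCo0 m))⁻¹ = _
    rw [← map_mul, ← map_inv, ← map_mul, perm_mul_sign_mul_inv]
    rfl
  inj w σ h := by
    have h1 : QuotientGroup.mk' (center Co0) (signCo0 w * permCo0 σ) = 1 := by rw [map_mul]; exact h
    have h2 : σ = 1 := by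
      rcases mem_center.1 ((QuotientGroup.eq_one_iff _).1 h1) with h3 | h3
      · exact perm_eq_one h3
      · apply perm_eq_one (d := allOne + w)
        rw [signCo0_add, mul_assoc, h3, signCo0_mul_self]
    refine ⟨h2, s_eq_one ?_⟩
    rw [h2, map_one, mul_one] at h
    exact h
  mem x := by
    constructor
    · rintro ⟨g, hg, rfl⟩
      obtain ⟨c, σ, h1⟩ := exists_sign_perm hg
      refine ⟨c, σ, ?_⟩
      rw [h1, map_mul]
      rfl
    · rintro ⟨w, σ, rfl⟩
      refine ⟨signCo0 w * permCo0 σ, N.mul_mem (sign_mem_N w) (perm_mem_N σ), ?_⟩
      rw [map_mul]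
      rfl
  odd := by
    have h : (N.map (QuotientGroup.mk' (center Co0))).index = N.index := by
      apply Subgroup.index_map_eq _ (QuotientGroup.mk'_surjective _)
      rw [QuotientGroup.ker_mk']
      exact center_le_N
    rw [h, index_N]
    norm_num

/-- **The 2-part of the multiplier of `Co₁` has order at most 2.** -/
theorem card_ker_le (hM : NoDouble M24) {K : Type*} [Group K] [Finite K] (hK : commutator K = ⊤)
    {f : K →* Cfsg.Spor.Co1} (hf : Function.Surjective f) (hk : f.ker ≤ center K) (h2 : IsPGroup 2 f.ker) :
    Nat.card f.ker ≤ 2 := gol.card_ker_le hM hK hf hk s_allOne h2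

/-- The kernel of a central extension of `Co₁` has a subgroup of odd index and order at most 2. -/
theorem card_two_part_le (hM : NoDouble M24) {K : Type*} [Group K] [Finite K] (hK : commutator K = ⊤)
    {f : K →* Cfsg.Spor.Co1} (hf : Function.Surjective f) (hk : f.ker ≤ center K) :
    ∃ e : K, e ∈ f.ker ∧ e * e = 1 ∧ ¬ 2 ∣ (zpowers e).relIndex f.ker := gol.odd_relIndex hM hK hf hk s_allOne

end Cfsg.Agent.KFacts.MulCo.Co1

end

-- merged: Cfsg.Agent.KFacts.MulCo.CoZero
section

/-!
# `Co₀` is the only perfect double cover of `Co₁` (helper927)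

* `commutator_co0`: `Co₀` is perfect; `dbl_co0`: it is a perfect double cover of `Co₁`.
* `oneCover`: `OneCover Co₁`, if `M₂₄` has no perfect double cover.
* `exists_equiv_co0`: a finite perfect group `K` with a homomorphism onto `Co₁` whose kernel is a non-trivial central
  2-group is isomorphic to `Co₀` over `Co₁`.
-/

set_option autoImplicit false
open Cfsg

namespace Cfsg.Agent.KFacts.MulCo.CoZero

open scoped Pointwise commutatorElement
open Subgroup Cfsg.Agent.KFacts.MulTwo Cfsg.Agent.KFacts.MulDef Cfsg.Agent.KFacts.MulBound
open Cfsg.Agent.SporadicA Cfsg.Agent.SporadicA.Co0Mono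
open Cfsg.Agent.SporadicA.Co1Simple
open Cfsg.Agent.CoOneType.SignFacts (sup wt sup_mem)
open Cfsg.Agent.KFacts.MulCo.Core Cfsg.Agent.KFacts.MulCo.Co1 Cfsg.Agent.KFacts.MulCo.OctStab

/-- A dodecad word `d` and a permutation mapping it to its complement. -/
theorem exists_swap : ∃ (d : golayCode) (m : M24), wordPerm m d = d + allOne := by
  let d : golayCode := q 0
  have h1 : wt d = 12 := by
    show (support₂ (qrWord 0)).card = 12
    rw [GolayBase.word_qrMask 0 |>.symm, GolayBase.support₂_word, GolayBase.card_fin]
    decide +kernel
  have h2 : wt (d + allOne) = 12 := by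
    have := Cfsg.Agent.CoOneType.SignFacts.wt_add_allOne d
    omega
  obtain ⟨m, hm⟩ := Cfsg.Agent.S0368.result (sup d) (sup (d + allOne)) ⟨sup_mem d, h1⟩ ⟨sup_mem _, h2⟩
  exact ⟨d, m, (wordPerm_eq_iff _ _ _).2 hm⟩

theorem commutator_co1 : commutator Cfsg.Spor.Co1 = ⊤ := by
  have hs : IsSimpleGroup Cfsg.Spor.Co1 := Cfsg.Agent.S0399.result.1
  rcases hs.eq_bot_or_eq_top_of_normal (commutator Cfsg.Spor.Co1) inferInstance with h | h
  · exfalso
    have hcomm : ∀ a b : Cfsg.Spor.Co1, a * b = b * a := by
      intro a b
      have h1 : ⁅a, b⁆ ∈ commutator Cfsg.Spor.Co1 :=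
        Subgroup.commutator_mem_commutator (Subgroup.mem_top a) (Subgroup.mem_top b)
      rw [h, Subgroup.mem_bot, commutatorElement_eq_one_iff_mul_comm] at h1
      exact h1
    let _ : CommGroup Cfsg.Spor.Co1 := { (inferInstance : Group Cfsg.Spor.Co1) with mul_comm := hcomm }
    have h2 : (Nat.card Cfsg.Spor.Co1).Prime := IsSimpleGroup.prime_card
    rw [show Nat.card Cfsg.Spor.Co1 = 4157776806543360000 from Cfsg.Agent.S0399.result.2] at h2
    exact absurd h2 (by norm_num)
  · exact h

theorem allOne_mem_commutator : signCo0 allOne ∈ commutator Co0 := by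
  obtain ⟨d, m, hm⟩ := exists_swap
  have h1 : ⁅permCo0 m, signCo0 d⁆ = signCo0 allOne := by
    rw [commutatorElement_def, perm_mul_sign_mul_inv, hm, signCo0_inv, ← signCo0_add, add_comm d, add_assoc,
      signCo0_add_self, add_zero]
  rw [← h1]
  exact commutator_mem_commutator (mem_top _) (mem_top _)

theorem commutator_co0 : commutator Co0 = ⊤ := by
  rw [eq_top_iff]
  intro g _
  have h1 : (commutator Co0).map (QuotientGroup.mk' (center Co0)) = ⊤ := by
    rw [commutator_def, map_commutator, ← MonoidHom.range_eq_map,
      MonoidHom.range_eq_top.2 (QuotientGroup.mk'_surjective _), ← commutator_def]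
    exact commutator_co1
  have h2 : QuotientGroup.mk' (center Co0) g ∈ (commutator Co0).map (QuotientGroup.mk' (center Co0)) := by
    rw [h1]; trivial
  obtain ⟨x, hx, h3⟩ := h2
  have h4 : x⁻¹ * g ∈ center Co0 := QuotientGroup.eq.1 h3
  have h5 : x⁻¹ * g ∈ commutator Co0 := by
    rcases mem_center.1 h4 with h | h
    · rw [h]; exact one_mem _
    · rw [h]; exact allOne_mem_commutator
  have := mul_mem hx h5
  rwa [mul_inv_cancel_left] at this

/-- `Co₀` is a perfect double cover of `Co₁`. -/
theorem dbl_co0 : Dbl (QuotientGroup.mk' (center Co0) : Co0 →* Cfsg.Spor.Co1) (signCo0 allOne) where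
  ne h := allOne_ne_zero (sign_eq_one h)
  sq := signCo0_mul_self _
  cen x := (mem_center_iff.1 allOne_mem_center x).symm
  perf := commutator_co0
  surj := QuotientGroup.mk'_surjective _
  ker x := by
    rw [← mem_center]
    exact QuotientGroup.eq_one_iff x

/-- In a double cover of `Co₁` the sign changes on a dodecad and its complement lift to different elements. -/
theorem commutator_eq (hM : NoDouble M24) {d : golayCode} {m : M24} (hm : wordPerm m d = d + allOne)
    {K : Type*} [Group K] [Finite K] {π : K →* Cfsg.Spor.Co1} {c : K} (hd : Dbl π c) {x y : K}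
    (hx : π x = s d) (hy : π y = p m) : ⁅x, y⁆ = c := by
  have hk : π.ker ≤ center K := by
    intro z hz
    rcases (hd.ker z).1 hz with rfl | rfl
    · exact one_mem _
    · exact mem_center_iff.2 fun g => (hd.cen g).symm
  obtain ⟨S, hS, hπ, heq⟩ := (gol.lift hd.surj hk).exists_section
  have hS0 : S 0 = 1 := by
    have := hS 0 0
    rw [add_zero] at this
    exact (left_eq_mul.1 this)
  have hSS : S d * S d = 1 := by rw [← hS, signCo0_add_self, hS0]
  have h1 : S allOne = c := by
    rcases (hd.ker _).1 (show π (S allOne) = 1 by rw [hπ, s_allOne]) with h | h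
    · exact absurd (gol.false_of_dbl hM hd hS hπ heq h) id
    · exact h
  have h2 := heq y m hy d
  rw [hm, hS, h1] at h2
  -- `y (S d) y⁻¹ = S d * c`
  have h3 : π (x * (S d)⁻¹) = 1 := by rw [map_mul, map_inv, hx, hπ, mul_inv_cancel]
  obtain ⟨z, hz, h4⟩ : ∃ z, z ∈ center K ∧ x = z * S d :=
    ⟨x * (S d)⁻¹, hk h3, by rw [inv_mul_cancel_right]⟩
  have hz' := mem_center_iff.1 hz
  have h5 : y * x * y⁻¹ = x * c := by
    calc y * x * y⁻¹ = (y * z) * S d * y⁻¹ := by rw [h4]; group
      _ = z * (y * S d * y⁻¹) := by rw [hz' y]; group
      _ = x * c := by rw [h2, h4]; group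
  have h6 : c⁻¹ = c := inv_eq_of_mul_eq_one_left hd.sq
  calc ⁅x, y⁆ = x * (y * x * y⁻¹)⁻¹ := by rw [commutatorElement_def]; group
    _ = x * (c⁻¹ * x⁻¹) := by rw [h5, mul_inv_rev]
    _ = c := by rw [h6, hd.cen, mul_inv_cancel_left]

/-- One perfect double cover. -/
theorem oneCover (hM : NoDouble M24) : OneCover Cfsg.Spor.Co1 := by
  obtain ⟨d, m, hm⟩ := exists_swap
  refine MulBaer.oneCover_of (s := s d) (w := p m) ?_ ?_
  · rw [← gol.add, signCo0_add_self, gol.ι_zero]
  · intro K _ _ π c hd x y hx hy
    exact commutator_eq hM hm hd hx hy

/-- **`Co₀` is the only perfect central extension of `Co₁` by a non-trivial 2-group.** -/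
theorem exists_equiv_co0 (hM : NoDouble M24) {K : Type*} [Group K] [Finite K] (hK : commutator K = ⊤)
    {f : K →* Cfsg.Spor.Co1} (hf : Function.Surjective f) (hk : f.ker ≤ center K) (h2 : IsPGroup 2 f.ker)
    (hne : f.ker ≠ ⊥) : ∃ θ : K ≃* Co0, ∀ x, QuotientGroup.mk' (center Co0) (θ x) = f x := by
  have hcard : Nat.card f.ker = 2 := by
    have h1 := card_ker_le hM hK hf hk h2
    have h3 : 1 < Nat.card f.ker := by
      rw [Subgroup.one_lt_card_iff_ne_bot]; exact hne
    omega
  obtain ⟨c, hc, hc'⟩ := (Nat.card_eq_two_iff' (1 : f.ker)).1 hcard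
  have hc1 : (c : K) ≠ 1 := fun h => hc (Subtype.ext h)
  have hmem : ∀ x, x ∈ f.ker → x = 1 ∨ x = c := by
    intro x hx
    by_cases h : x = 1
    · exact Or.inl h
    · exact Or.inr (congrArg Subtype.val (hc' ⟨x, hx⟩ (fun h' => h (congrArg Subtype.val h'))))
  have hd : Dbl f (c : K) :=
    { ne := hc1
      sq := by
        rcases hmem _ (mul_mem c.2 c.2) with h | h
        · exact h
        · exact absurd (mul_eq_left.1 h) hc1
      cen := fun x => (mem_center_iff.1 (hk c.2) x).symm
      perf := hK
      surj := hf
      ker := fun x => ⟨fun h => hmem x h, fun h => by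
        rcases h with rfl | rfl
        · exact map_one f
        · exact c.2⟩ }
  obtain ⟨K', i1, i2, ⟨e⟩⟩ := exists_type_zero K
  have hd' := hd.of_equiv e (MulEquiv.refl _)
  obtain ⟨θ, hθ⟩ := (oneCover hM).uniq K' Co0 _ _ _ _ hd' dbl_co0
  refine ⟨e.trans θ, fun x => ?_⟩
  have h3 := hθ (e x)
  rw [MulEquiv.trans_apply]
  rw [h3]
  show f (e.symm (e x)) = f x
  rw [e.symm_apply_apply]

end Cfsg.Agent.KFacts.MulCo.CoZero

end
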